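import Cfsg.Agent.Lib.HalfTransitive.Basic

/-!
# Half-transitive two-groups with a system of two blocks
-/

set_option autoImplicit false
set_option linter.unusedSectionVars false

namespace CfsgLib.HalfTransitive

/-- `q ^ d = 2 ^ j + 1` for an odd prime `q` forces `d = 1` or `q ^ d = 9`. -/
theorem pow_eq_two_pow_succ {q d j : ℕ} (hq : q.Prime) (hq2 : q ≠ 2) (hd : d ≠ 0)
    (h : q ^ d = 2 ^ j + 1) : d = 1 ∨ q ^ d = 9 := by
  have hodd : Odd q := hq.odd_of_ne_two hq2
  rcases Nat.even_or_odd' d with ⟨e, rfl | rfl⟩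
  · right
    have hsq : (q ^ e + 1) * (q ^ e - 1) = 2 ^ j := by
      rw [← Nat.sq_sub_sq, one_pow, ← pow_mul, mul_comm e 2, h, Nat.add_sub_cancel]
    obtain ⟨a, -, ha⟩ := (Nat.dvd_prime_pow Nat.prime_two).1 ⟨_, hsq.symm⟩
    obtain ⟨b, -, hb⟩ := (Nat.dvd_prime_pow Nat.prime_two).1 (Dvd.intro_left _ hsq)
    have h3 : 3 ≤ q ^ e := le_trans (by have := hq.two_le; omega) (Nat.le_self_pow (by omega) q)
    have hb1 : b = 1 := by
      rcases (show b = 0 ∨ b = 1 ∨ 2 ≤ b by omega) with rfl | rfl | hb2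
      · simp at hb; omega
      · rfl
      · exfalso
        have hlt : b < a := (Nat.pow_lt_pow_iff_right (by norm_num : 1 < 2)).1 (by omega)
        have d1 : 4 ∣ 2 ^ a := Dvd.dvd.trans (by norm_num) (Nat.pow_dvd_pow 2 (show 2 ≤ a by omega))
        have d2 : 4 ∣ 2 ^ b := Dvd.dvd.trans (by norm_num) (Nat.pow_dvd_pow 2 hb2)
        omega
    subst hb1
    rw [mul_comm 2 e, pow_mul, show q ^ e = 3 by omega]
    norm_num
  · left
    have hS : (q - 1) * ∑ i ∈ Finset.range (2 * e + 1), q ^ i = 2 ^ j := by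
      have := geom_sum_mul_add (q - 1) (2 * e + 1)
      rw [Nat.sub_add_cancel hq.one_lt.le, h] at this
      rw [mul_comm]
      exact Nat.add_right_cancel this
    have hSodd : Odd (∑ i ∈ Finset.range (2 * e + 1), q ^ i) := by
      rw [Finset.odd_sum_iff_odd_card_odd]
      rw [Finset.filter_true_of_mem fun i _ => hodd.pow]
      simp
    obtain ⟨a, -, ha⟩ := (Nat.dvd_prime_pow Nat.prime_two).1 (Dvd.intro_left _ hS)
    rcases Nat.eq_zero_or_pos a with rfl | hpos
    · by_contra hne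
      have h2 : ∑ i ∈ Finset.range 2, q ^ i ≤ ∑ i ∈ Finset.range (2 * e + 1), q ^ i :=
        Finset.sum_le_sum_of_subset (Finset.range_mono (by omega))
      rw [ha, Finset.sum_range_succ, Finset.sum_range_one] at h2
      have := hq.two_le
      simp at h2
      omega
    · rw [ha] at hSodd
      exact absurd hSodd (Nat.not_odd_iff_even.2 (Nat.even_pow.2 ⟨even_two, by omega⟩))

variable {q : ℕ} [Fact q.Prime] {G V : Type*} [Group G] [Finite G] [AddCommGroup V]
  [Module (ZMod q) V] [Finite V] [DistribMulAction G V]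

omit [Finite G] [DistribMulAction G V] in
theorem card_addSubgroup_eq (U : AddSubgroup V) : ∃ d, Nat.card U = q ^ d := by
  obtain ⟨n, hn⟩ : ∃ n, Nat.card V = q ^ n :=
    ⟨Module.finrank (ZMod q) V, by rw [Module.natCard_eq_pow_finrank (K := ZMod q), Nat.card_zmod]⟩
  obtain ⟨d, -, hd⟩ := (Nat.dvd_prime_pow (Fact.out : q.Prime)).1 (hn ▸ AddSubgroup.card_addSubgroup_dvd_card U)
  exact ⟨d, hd⟩

omit [Finite G] [DistribMulAction G V] in
/-- The points of a subgroup of order `q` are the multiples of any non-zero one. -/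
theorem exists_smul_of_card_eq {U : AddSubgroup V} (hU : Nat.card U = q) {u : V} (hu : u ∈ U)
    (hu0 : u ≠ 0) {v : V} (hv : v ∈ U) : ∃ c : ZMod q, c • u = v := by
  have hmem : ∀ c : ZMod q, c • u ∈ U := fun c => by
    obtain ⟨n, rfl⟩ := ZMod.natCast_zmod_surjective c
    rw [Nat.cast_smul_eq_nsmul]
    exact nsmul_mem hu n
  have hinj : Function.Injective fun c : ZMod q => (⟨c • u, hmem c⟩ : U) := fun a b h => by
    have h' : a • u = b • u := congrArg Subtype.val h
    by_contra hne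
    have h0 : (a - b) • u = 0 := by rw [sub_smul, h', sub_self]
    exact hu0 ((smul_eq_zero.1 h0).resolve_left (sub_ne_zero.2 hne))
  obtain ⟨c, hc⟩ := (hinj.bijective_of_nat_card_le (by rw [hU, Nat.card_zmod])).2 ⟨v, hv⟩
  exact ⟨c, congrArg Subtype.val hc⟩

/-- Two blocks, cut out by an element `e` whose conjugates are `± e`. -/
structure TwoBlocks (G V : Type*) [Group G] [AddCommGroup V] [DistribMulAction G V] where
  e : G
  g : G
  u0 : V
  hu0 : u0 ≠ 0
  he0 : e • u0 = u0
  hsq : ∀ v : V, e • (e • v) = v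
  hg : ∀ v : V, g • (e • v) = -(e • (g • v))
  hall : ∀ h : G, Commute h e ∨ ∀ v : V, h • (e • v) = -(e • (h • v))

namespace TwoBlocks

variable (B : TwoBlocks G V)

/-- The first block. -/
def U : AddSubgroup V := fix V B.e

/-- The second block. -/
def W : AddSubgroup V where
  carrier := {v | B.e • v = -v}
  zero_mem' := by simp
  add_mem' := fun {a b} ha hb => by
    show B.e • (a + b) = -(a + b)
    rw [smul_add, show B.e • a = -a from ha, show B.e • b = -b from hb, neg_add]
  neg_mem' := fun {a} ha => by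
    show B.e • (-a) = - -a
    rw [smul_neg, show B.e • a = -a from ha]

/-- The setwise stabiliser of the first block. -/
def H : Subgroup G := Subgroup.centralizer ({B.e} : Set G)

/-- The pointwise stabiliser of the first block. -/
def C1 : Subgroup G where
  carrier := {h | ∀ u ∈ B.U, h • u = u}
  one_mem' := fun u _ => one_smul G u
  mul_mem' := fun {a b} ha hb u hu => by rw [mul_smul, hb u hu, ha u hu]
  inv_mem' := fun {a} ha u hu => by rw [inv_smul_eq_iff]; exact (ha u hu).symm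

omit [Finite G] in
theorem mem_H {h : G} : h ∈ B.H ↔ Commute h B.e := Subgroup.mem_centralizer_singleton_iff

section
variable (h2 : ∀ v : V, 2 • v = 0 → v = 0)
include h2

omit [Finite G] in
theorem out_of_notMem {h : G} (hh : h ∉ B.H) : ∀ v : V, h • (B.e • v) = -(B.e • (h • v)) :=
  (B.hall h).resolve_left fun hc => hh (B.mem_H.2 hc)

omit [Finite G] in
theorem g_notMem : B.g ∉ B.H := by
  intro h
  have h1 := B.hg B.u0
  rw [← mul_smul, (B.mem_H.1 h).eq, mul_smul] at h1
  have h3 := congrArg (B.e • ·) h1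
  simp only [smul_neg, B.hsq] at h3
  exact B.hu0 ((smul_eq_zero_iff_eq B.g).1 (eq_zero_of_two_nsmul h2 h3))

omit [Finite G] in
theorem sum_unique {u u' w w' : V} (hu : u ∈ B.U) (hu' : u' ∈ B.U) (hw : w ∈ B.W) (hw' : w' ∈ B.W)
    (h : u + w = u' + w') : u = u' ∧ w = w' := by
  have h1 : u - u' = w' - w := by
    rw [sub_eq_sub_iff_add_eq_add, h]
    abel
  have h3 : B.e • (u - u') = u - u' := B.U.sub_mem hu hu'
  have h4 : B.e • (w' - w) = -(w' - w) := B.W.sub_mem hw' hw
  rw [← h1, h3] at h4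
  have h5 := eq_zero_of_two_nsmul h2 h4
  refine ⟨sub_eq_zero.1 h5, ?_⟩
  rw [h1] at h5
  exact (sub_eq_zero.1 h5).symm

omit [Finite G] in
theorem ext_two {h : G} (hf : ∀ g : G, (∀ v : V, g • v = v) → g = 1) (hU : ∀ u ∈ B.U, h • u = u)
    (hW : ∀ w ∈ B.W, h • w = w) : h = 1 := by
  refine hf h fun v => sub_eq_zero.1 (h2 _ ?_)
  have hu : v + B.e • v ∈ B.U := by
    show B.e • (v + B.e • v) = v + B.e • v
    rw [smul_add, B.hsq, add_comm]
  have hw : v - B.e • v ∈ B.W := by
    show B.e • (v - B.e • v) = -(v - B.e • v)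
    rw [smul_sub, B.hsq, neg_sub]
  calc 2 • (h • v - v) = h • ((v + B.e • v) + (v - B.e • v)) - ((v + B.e • v) + (v - B.e • v)) := by
        rw [two_nsmul, add_add_sub_cancel, smul_add]; abel
    _ = 0 := by rw [smul_add, hU _ hu, hW _ hw, sub_self]

omit [Finite G] in
theorem in_U {h : G} (hh : h ∈ B.H) {u : V} (hu : u ∈ B.U) : h • u ∈ B.U := by
  show B.e • (h • u) = h • u
  rw [← mul_smul, ← (B.mem_H.1 hh).eq, mul_smul, show B.e • u = u from hu]

omit [Finite G] in
theorem in_W {h : G} (hh : h ∈ B.H) {w : V} (hw : w ∈ B.W) : h • w ∈ B.W := by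
  show B.e • (h • w) = -(h • w)
  rw [← mul_smul, ← (B.mem_H.1 hh).eq, mul_smul, show B.e • w = -w from hw, smul_neg]

omit [Finite G] in
theorem out_U {h : G} (hh : h ∉ B.H) {u : V} (hu : u ∈ B.U) : h • u ∈ B.W := by
  have h1 := B.out_of_notMem h2 hh u
  rw [show B.e • u = u from hu] at h1
  show B.e • (h • u) = -(h • u)
  exact (neg_eq_iff_eq_neg.2 h1).symm

omit [Finite G] in
theorem out_W {h : G} (hh : h ∉ B.H) {w : V} (hw : w ∈ B.W) : h • w ∈ B.U := by
  have h1 := B.out_of_notMem h2 hh w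
  rw [show B.e • w = -w from hw, smul_neg, neg_inj] at h1
  exact h1.symm

omit [Finite G] in
theorem out_mul_out {a b : G} (ha : a ∉ B.H) (hb : b ∉ B.H) : a * b ∈ B.H := by
  rcases B.hall (a * b) with hc | hc
  · exact B.mem_H.2 hc
  exfalso
  have hu : B.u0 ∈ B.U := B.he0
  have h1 : (a * b) • B.u0 ∈ B.U := by rw [mul_smul]; exact B.out_W h2 ha (B.out_U h2 hb hu)
  have h3 := hc B.u0
  rw [B.he0, show B.e • ((a * b) • B.u0) = (a * b) • B.u0 from h1] at h3
  exact B.hu0 ((smul_eq_zero_iff_eq _).1 (eq_zero_of_two_nsmul h2 h3))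

omit [Finite G] in
theorem disjoint_UW {v : V} (hu : v ∈ B.U) (hw : v ∈ B.W) : v = 0 := by
  refine eq_zero_of_two_nsmul h2 ?_
  exact (show B.e • v = v from hu).symm.trans hw

omit [Finite G] in
theorem mem_H_of_fix {h : G} {v : V} (hv : v ∈ B.U ∨ v ∈ B.W) (hv0 : v ≠ 0) (hf : h • v = v) :
    h ∈ B.H := by
  by_contra hh
  rcases hv with hv | hv
  · have h1 := B.out_U h2 hh hv
    rw [hf] at h1
    exact hv0 (B.disjoint_UW h2 hv h1)
  · have h1 := B.out_W h2 hh hv
    rw [hf] at h1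
    exact hv0 (B.disjoint_UW h2 h1 hv)

omit [Finite G] in
theorem card_V : Nat.card V = Nat.card B.U * Nat.card B.W := by
  rw [← Nat.card_prod]
  refine (Nat.card_congr (Equiv.ofBijective (fun p : B.U × B.W => (p.1 : V) + p.2) ⟨?_, ?_⟩)).symm
  · rintro ⟨a, b⟩ ⟨a', b'⟩ h
    obtain ⟨e1, e2⟩ := B.sum_unique h2 a.2 a'.2 b.2 b'.2 h
    exact Prod.ext (Subtype.ext e1) (Subtype.ext e2)
  · intro v
    haveI : Finite V := inferInstance
    obtain ⟨v', hv'⟩ : ∃ v' : V, 2 • v' = v :=
      (Finite.injective_iff_surjective.1 fun a b h => sub_eq_zero.1 (h2 _ (by rw [smul_sub, h, sub_self]))) v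
    refine ⟨(⟨v' + B.e • v', by show B.e • _ = _; rw [smul_add, B.hsq, add_comm]⟩,
      ⟨v' - B.e • v', by show B.e • _ = _; rw [smul_sub, B.hsq, neg_sub]⟩), ?_⟩
    show v' + B.e • v' + (v' - B.e • v') = v
    rw [← hv', two_nsmul, add_add_sub_cancel]

theorem card_U_eq : Nat.card B.U = Nat.card B.W := by
  refine le_antisymm
    (Nat.card_le_card_of_injective (fun u : B.U => (⟨B.g • u.1, B.out_U h2 (B.g_notMem h2) u.2⟩ : B.W))
      fun a b h => Subtype.ext ((smul_left_cancel_iff _).1 (congrArg Subtype.val h)))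
    (Nat.card_le_card_of_injective (fun w : B.W => (⟨B.g • w.1, B.out_W h2 (B.g_notMem h2) w.2⟩ : B.U))
      fun a b h => Subtype.ext ((smul_left_cancel_iff _).1 (congrArg Subtype.val h)))

variable (hE : EqualStab G V)
include hE

/-- If `u + w` is fixed by something outside `H`, this swaps `u` and `w`. -/
theorem swap_or_small {u w : V} (hu : u ∈ B.U) (hw : w ∈ B.W) {h : G} (hh : h • (u + w) = u + w) :
    (h ∈ B.H → h • u = u ∧ h • w = w) ∧ (h ∉ B.H → h • u = w ∧ h • w = u) := by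
  rw [smul_add] at hh
  refine ⟨fun hi => B.sum_unique h2 (B.in_U h2 hi hu) hu (B.in_W h2 hi hw) hw hh, fun ho => ?_⟩
  obtain ⟨e1, e2⟩ := B.sum_unique h2 (B.out_W h2 ho hw) hu (B.out_U h2 ho hu) hw
    (by rw [add_comm]; exact hh)
  exact ⟨e2, e1⟩

/-- The stabiliser of `u` induces orbits of at most two points on the other block. -/
theorem orbit_le_two {u : V} (hu : u ∈ B.U) (hu0 : u ≠ 0) {w : V} (hw : w ∈ B.W)
    {a b : G} (ha : a • u = u) (hb : b • u = u) (haw : a • w ≠ w) (hbw : b • w ≠ w) :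
    a • w = b • w := by
  classical
  by_cases hw0 : w = 0
  · exact absurd (by rw [hw0, smul_zero]) haw
  set S := MulAction.stabilizer G u
  set K := S ⊓ MulAction.stabilizer G w
  set T := MulAction.stabilizer G (u + w)
  have huw : u + w ≠ 0 := fun h => hu0 ((B.sum_unique h2 hu B.U.zero_mem hw B.W.zero_mem
    (by rw [h, add_zero])).1)
  have hTS : Nat.card T = Nat.card S := hE _ _ huw hu0
  have hK : ∀ t : T, (t : G) ∈ B.H → (t : G) ∈ K := fun t ht =>
    (B.swap_or_small h2 hE hu hw t.2).1 ht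
  have hle : Nat.card T ≤ Nat.card (Bool × K) := by
    by_cases hout : ∃ t : T, (t : G) ∉ B.H
    · obtain ⟨t0, ht0⟩ := hout
      refine Nat.card_le_card_of_injective
        (fun t => if ht : (t : G) ∈ B.H then (false, ⟨t, hK t ht⟩)
          else (true, ⟨((t0 * t : T) : G), hK (t0 * t) (B.out_mul_out h2 ht0 ht)⟩)) ?_
      intro s t hst
      simp only at hst
      by_cases hs : (s : G) ∈ B.H <;> by_cases ht : (t : G) ∈ B.H
      · rw [dif_pos hs, dif_pos ht, Prod.mk.injEq] at hst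
        exact Subtype.ext (congrArg (fun x : K => (x : G)) hst.2)
      · rw [dif_pos hs, dif_neg ht, Prod.mk.injEq] at hst
        exact absurd hst.1 (by decide)
      · rw [dif_neg hs, dif_pos ht, Prod.mk.injEq] at hst
        exact absurd hst.1 (by decide)
      · rw [dif_neg hs, dif_neg ht, Prod.mk.injEq] at hst
        exact mul_left_cancel (Subtype.ext (congrArg (fun x : K => (x : G)) hst.2) : t0 * s = t0 * t)
    · push Not at hout
      exact Nat.card_le_card_of_injective (fun t => (false, (⟨t, hK t (hout t)⟩ : K))) fun s t hst =>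
        Subtype.ext (congrArg (fun x : K => (x : G)) (Prod.mk.inj hst).2)
  rw [Nat.card_prod, Nat.card_eq_fintype_card (α := Bool), Fintype.card_bool, hTS] at hle
  have hidx : (K.subgroupOf S).index ≤ 2 := by
    have h1 := (K.subgroupOf S).index_mul_card
    rw [Nat.card_congr (Subgroup.subgroupOfEquivOfLe (inf_le_left : K ≤ S)).toEquiv] at h1
    by_contra hc
    push Not at hc
    have := Nat.mul_le_mul_right (Nat.card K) hc
    have := Nat.card_pos (α := K)
    nlinarith
  have hne : ∀ x : S, (x : G) • w ≠ w → x ∉ K.subgroupOf S := fun x hx hm =>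
    hx (Subgroup.mem_subgroupOf.1 hm).2
  have hidx2 : (K.subgroupOf S).index = 2 := by
    have : (K.subgroupOf S).index ≠ 0 := Subgroup.index_ne_zero_of_finite
    rcases (show (K.subgroupOf S).index = 1 ∨ (K.subgroupOf S).index = 2 by omega) with h | h
    · exact absurd (by rw [Subgroup.index_eq_one.1 h]; trivial) (hne ⟨a, ha⟩ haw)
    · exact h
  have hmem : (⟨a, ha⟩ : S)⁻¹ * ⟨b, hb⟩ ∈ K.subgroupOf S := by
    rw [Subgroup.mul_mem_iff_of_index_two hidx2, inv_mem_iff]
    exact iff_of_false (hne ⟨a, ha⟩ haw) (hne ⟨b, hb⟩ hbw)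
  have h1 : (a⁻¹ * b) • w = w := (Subgroup.mem_subgroupOf.1 hmem).2
  rw [mul_smul, inv_smul_eq_iff] at h1
  exact h1.symm

/-- The orbits of `H` on the second block all have half of `|H|` points when stabilisers have order two. -/
theorem card_orbit_H (hs : ∀ v : V, v ≠ 0 → Nat.card (MulAction.stabilizer G v) = 2) {w : V}
    (hw : w ∈ B.W) (hw0 : w ≠ 0) : Nat.card (MulAction.orbit B.H w) * 2 = Nat.card B.H := by
  have h1 : Nat.card (MulAction.stabilizer B.H w) = 2 := by
    rw [← hs w hw0]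
    exact Nat.card_congr
      { toFun := fun x => ⟨(x.1 : G), x.2⟩
        invFun := fun x => ⟨⟨x.1, B.mem_H_of_fix h2 (Or.inr hw) hw0 x.2⟩, x.2⟩
        left_inv := fun _ => rfl
        right_inv := fun _ => rfl }
  rw [← (MulAction.stabilizer B.H w).card_mul_index, h1, MulAction.index_stabilizer, Nat.card_coe_set_eq,
    mul_comm]

/-- `H` is transitive on the non-zero vectors of the second block, so there are `2 ^ j` of them. -/
theorem transitive (hG : IsPGroup 2 G) (hs : ∀ v : V, v ≠ 0 → Nat.card (MulAction.stabilizer G v) = 2)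
    (hq2 : q ≠ 2) {u : V} (hu : u ∈ B.U) (hu0 : u ≠ 0) (Cw : AddSubgroup V) (hCw : Cw ≤ B.W) (hne : Cw ≠ B.W)
    (hswap : ∀ w ∈ B.W, w ∉ Cw → ∃ h : G, h ∉ B.H ∧ h • u = w) :
    (∃ j, Nat.card B.W = 2 ^ j + 1) ∧ ∀ w ∈ B.W, w ≠ 0 → ∃ h : G, h ∉ B.H ∧ h • u = w := by
  classical
  set w0 := B.g • u
  have hw0 : w0 ∈ B.W := B.out_U h2 (B.g_notMem h2) hu
  have hw00 : w0 ≠ 0 := fun h => hu0 ((smul_eq_zero_iff_eq B.g).1 h)
  set O := MulAction.orbit B.H w0
  have hsub : ∀ w : V, w ∈ O → w ∈ B.W ∧ w ≠ 0 := by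
    rintro _ ⟨h, rfl⟩
    exact ⟨B.in_W h2 h.2 hw0, fun e => hw00 ((smul_eq_zero_iff_eq h.1).1 e)⟩
  have hO : ∀ w, (∃ h : G, h ∉ B.H ∧ h • u = w) ↔ w ∈ O := by
    intro w
    constructor
    · rintro ⟨h, hh, rfl⟩
      refine ⟨⟨h * B.g⁻¹, B.out_mul_out h2 hh (fun hi => B.g_notMem h2 (inv_inv B.g ▸ B.H.inv_mem hi))⟩, ?_⟩
      show (h * B.g⁻¹) • (B.g • u) = h • u
      rw [mul_smul, inv_smul_smul]
    · rintro ⟨h, rfl⟩
      refine ⟨(h : G) * B.g, fun hi => B.g_notMem h2 ?_, mul_smul _ _ _⟩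
      simpa using B.H.mul_mem (B.H.inv_mem h.2) hi
  have hWfin : (B.W : Set V).Finite := Set.toFinite _
  have hmain : ∀ w ∈ B.W, w ≠ 0 → w ∈ O := by
    intro w hw hw'
    by_contra hnO
    set O' := MulAction.orbit B.H w
    have hdis : Disjoint O O' := by
      rw [Set.disjoint_left]
      intro v hv hv'
      have h := (MulAction.orbit_eq_iff.2 hv).symm.trans (MulAction.orbit_eq_iff.2 hv')
      exact hnO (by show w ∈ MulAction.orbit B.H w0; rw [h]; exact MulAction.mem_orbit_self w)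
    have e0 : O.ncard * 2 = Nat.card B.H := by
      rw [← Nat.card_coe_set_eq]; exact B.card_orbit_H h2 hE hs hw0 hw00
    have e1 : O'.ncard * 2 = Nat.card B.H := by
      rw [← Nat.card_coe_set_eq]; exact B.card_orbit_H h2 hE hs hw hw'
    have hsub' : O ∪ O' ⊆ (B.W : Set V) \ {0} := by
      rintro v (hv | hv)
      · exact ⟨(hsub v hv).1, (hsub v hv).2⟩
      · obtain ⟨h, rfl⟩ := hv
        exact ⟨B.in_W h2 h.2 hw, fun e => hw' ((smul_eq_zero_iff_eq h.1).1 e)⟩
    have c1 := Set.ncard_le_ncard hsub' (hWfin.subset Set.diff_subset)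
    rw [Set.ncard_union_eq hdis, Set.ncard_diff_singleton_of_mem B.W.zero_mem] at c1
    have c2 : (B.W : Set V) \ (Cw : Set V) ⊆ O := fun v hv => (hO v).1 (hswap v hv.1 hv.2)
    have c3 := Set.ncard_le_ncard c2 (Set.toFinite O)
    have hCW : Set.ncard (B.W : Set V) = Nat.card B.W := (Nat.card_coe_set_eq _).symm
    have hCC : Set.ncard (Cw : Set V) = Nat.card Cw := (Nat.card_coe_set_eq _).symm
    rw [Set.ncard_diff hCw, hCW, hCC] at c3
    rw [hCW] at c1
    have hdvd := AddSubgroup.card_dvd_of_le hCw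
    obtain ⟨k, hk⟩ := hdvd
    have hk3 : 3 ≤ k := by
      obtain ⟨d, hd⟩ := card_addSubgroup_eq (q := q) B.W
      obtain ⟨d', -, hd'⟩ := (Nat.dvd_prime_pow (Fact.out : q.Prime)).1
        (hd ▸ Dvd.intro_left _ hk.symm : k ∣ q ^ d)
      rcases Nat.eq_zero_or_pos d' with rfl | hd''
      · refine absurd (AddSubgroup.eq_of_le_of_card_ge hCw ?_) hne
        rw [hk, hd', pow_zero, mul_one]
      · have h3 : 3 ≤ q := by have := (Fact.out : q.Prime).two_le; omega
        rw [hd']
        exact h3.trans (Nat.le_self_pow (by omega) q)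
    have hpos : 0 < Nat.card B.W := Nat.card_pos
    have h3C : 3 * Nat.card Cw ≤ Nat.card B.W := by
      rw [hk, mul_comm 3]
      exact Nat.mul_le_mul_left _ hk3
    omega
  refine ⟨?_, fun w hw hw' => (hO w).2 (hmain w hw hw')⟩
  have hOW : O = (B.W : Set V) \ {0} :=
    Set.eq_of_subset_of_subset (fun v hv => ⟨(hsub v hv).1, (hsub v hv).2⟩) fun v hv => hmain v hv.1 hv.2
  have hdvd : Nat.card O ∣ Nat.card B.H := ⟨2, (B.card_orbit_H h2 hE hs hw0 hw00).symm⟩
  obtain ⟨k, hk⟩ := IsPGroup.iff_card.1 (hG.to_subgroup B.H)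
  rw [hk] at hdvd
  obtain ⟨j, -, hj⟩ := (Nat.dvd_prime_pow Nat.prime_two).1 hdvd
  refine ⟨j, ?_⟩
  rw [Nat.card_coe_set_eq, hOW, Set.ncard_diff_singleton_of_mem B.W.zero_mem, ← Nat.card_coe_set_eq] at hj
  have hpos : 0 < Nat.card B.W := Nat.card_pos
  change Nat.card B.W - 1 = 2 ^ j at hj
  omega

include B in
/-- The classification in the case of two blocks. -/
theorem classify (hG : IsPGroup 2 G) (hf : ∀ g : G, (∀ v : V, g • v = v) → g = 1) (hq2 : q ≠ 2)
    (hlin : ∀ (h : G) (c : ZMod q) (v : V), h • (c • v) = c • (h • v))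
    (hns : ∀ v : V, v ≠ 0 → MulAction.stabilizer G v ≠ ⊥) :
    (Nat.card V = 81 ∧ q = 3) ∨
    (Nat.card V = q ^ 2 ∧ (∃ m : ℕ, q = 2 ^ m + 1) ∧ ∃ u w : V,
      Function.Bijective (fun c : ZMod q × ZMod q => c.1 • u + c.2 • w) ∧
      (∀ h : G, ∃ a s : ZMod q, a ≠ 0 ∧ (s = 1 ∨ s = -1) ∧
        ((h • u = a • u ∧ h • w = (s * a⁻¹) • w) ∨ (h • u = a • w ∧ h • w = (s * a⁻¹) • u))) ∧
      ∀ a s : ZMod q, a ≠ 0 → (s = 1 ∨ s = -1) →
        (∃ h : G, h • u = a • u ∧ h • w = (s * a⁻¹) • w) ∧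
        ∃ h : G, h • u = a • w ∧ h • w = (s * a⁻¹) • u) := by
  classical
  set u := B.u0
  have hu : u ∈ B.U := B.he0
  have hu0 : u ≠ 0 := B.hu0
  set g := B.g
  have hg : g ∉ B.H := B.g_notMem h2
  have hg' : g⁻¹ ∉ B.H := fun h => hg (inv_inv g ▸ B.H.inv_mem h)
  have hq : q.Prime := Fact.out
  obtain ⟨d, hd⟩ := card_addSubgroup_eq (q := q) B.W
  have hd0 : d ≠ 0 := by
    rintro rfl
    rw [pow_zero] at hd
    haveI := (Nat.card_eq_one_iff_unique.1 hd).1
    have h0 : (⟨g • u, B.out_U h2 hg hu⟩ : B.W) = 0 := Subsingleton.elim _ _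
    exact hu0 ((smul_eq_zero_iff_eq g).1 (congrArg Subtype.val h0))
  have hnine : q ^ d = 9 → Nat.card V = 81 ∧ q = 3 := by
    intro h
    refine ⟨by rw [B.card_V h2, B.card_U_eq h2, hd, h], ?_⟩
    exact (Nat.prime_dvd_prime_iff_eq hq Nat.prime_three).1
      (hq.dvd_of_dvd_pow (show q ∣ 3 ^ 2 by norm_num; rw [← h]; exact dvd_pow_self q hd0))
  have hU : ∀ a : G, ∀ v : V, v ∈ B.U → v ≠ 0 → a • v = v → a ∈ B.H := fun a v hv hv0 h =>
    B.mem_H_of_fix h2 (Or.inl hv) hv0 h
  have horb : ∀ v ∈ B.U, v ≠ 0 → ∀ w ∈ B.W, ∀ a ∈ MulAction.stabilizer G v,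
      ∀ b ∈ MulAction.stabilizer G v, a • w ≠ w → b • w ≠ w → a • w = b • w :=
    fun v hv hv0 w hw a ha b hb => B.orbit_le_two h2 hE hv hv0 hw ha hb
  have hA : ∀ v ∈ B.U, v ≠ 0 → ∀ a ∈ MulAction.stabilizer G v, ∀ w ∈ B.W, a • w ∈ B.W :=
    fun v hv hv0 a ha w hw => B.in_W h2 (hU a v hv hv0 ha) hw
  have hconjW : ∀ a : G, (∀ w ∈ B.W, a • w = w) → g⁻¹ * a * g ∈ B.C1 := by
    intro a ha v hv
    rw [mul_smul, mul_smul, ha _ (B.out_U h2 hg hv), inv_smul_smul]
  by_cases hC : B.C1 = ⊥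
  · -- faithful on each block
    have hfaith : ∀ a : G, (∀ w ∈ B.W, a • w = w) → a = 1 := by
      intro a ha
      have h1 := hconjW a ha
      rw [hC, Subgroup.mem_bot] at h1
      calc a = g * (g⁻¹ * a * g) * g⁻¹ := by group
        _ = 1 := by rw [h1]; group
    have hs : ∀ v : V, v ≠ 0 → Nat.card (MulAction.stabilizer G v) = 2 := by
      intro v hv0
      rw [hE v u hv0 hu0]
      refine le_antisymm (card_le_two h2 _ (hA u hu hu0) (fun a _ => hfaith a) (horb u hu hu0)) ?_
      have := (Subgroup.one_lt_card_iff_ne_bot _).2 (hns u hu0)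
      omega
    obtain ⟨a, ha1⟩ := (Subgroup.ne_bot_iff_exists_ne_one.1 (hns u hu0))
    let Cw : AddSubgroup V := B.W ⊓ fix V (a : G)
    have haH : (a : G) ∈ B.H := hU a u hu hu0 a.2
    obtain ⟨⟨j, hj⟩, htr⟩ := B.transitive h2 hE hG hs hq2 hu hu0 Cw inf_le_left (fun h => by
      refine ha1 (Subtype.ext (hfaith a fun w hw => ?_))
      rw [← h] at hw
      exact hw.2) (by
      intro w hw hwC
      have haw : (a : G) • w ≠ w := fun h => hwC ⟨hw, h⟩
      have hw0 : w ≠ 0 := fun h => haw (by rw [h, smul_zero])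
      have huw : u + w ≠ 0 := fun h => hu0 ((B.sum_unique h2 hu B.U.zero_mem hw B.W.zero_mem
        (by rw [h, add_zero])).1)
      obtain ⟨t, ht1⟩ := (Subgroup.ne_bot_iff_exists_ne_one.1 (hns _ huw))
      obtain ⟨hin, hout⟩ := B.swap_or_small h2 hE hu hw t.2
      refine ⟨t, fun htH => haw ?_, (hout fun htH => haw ?_).1⟩ <;>
      · obtain ⟨h1, h3⟩ := hin htH
        have hcard := hs u hu0
        haveI : Fintype (MulAction.stabilizer G u) := Fintype.ofFinite _
        rw [Nat.card_eq_fintype_card] at hcard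
        have : (⟨t, h1⟩ : MulAction.stabilizer G u) = a := by
          by_contra hne
          have h4 := Finset.card_le_univ ({1, a, ⟨t, h1⟩} : Finset (MulAction.stabilizer G u))
          rw [Finset.card_eq_three.2 ⟨1, a, ⟨t, h1⟩, Ne.symm ha1,
            fun e => ht1 (Subtype.ext (congrArg (fun x : MulAction.stabilizer G u => (x : G)) e).symm),
            Ne.symm hne, rfl⟩, hcard] at h4
          omega
        rw [← this]
        exact h3)
    have h2j : q ^ d = 2 ^ j + 1 := hd.symm.trans hj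
    rcases pow_eq_two_pow_succ hq hq2 hd0 h2j with rfl | h9
    · -- a line would be fixed pointwise
      exfalso
      refine ha1 (Subtype.ext ?_)
      have hUq : Nat.card B.U = q := by rw [B.card_U_eq h2, hd, pow_one]
      have : (a : G) ∈ B.C1 := by
        intro v hv
        obtain ⟨c, rfl⟩ := exists_smul_of_card_eq hUq hu hu0 hv
        rw [hlin, show (a : G) • u = u from a.2]
      rw [hC, Subgroup.mem_bot] at this
      exact this
    · exact Or.inl (hnine h9)
  · -- a reflection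
    obtain ⟨c, hc1⟩ := Subgroup.ne_bot_iff_exists_ne_one.1 hC
    have hC1 : ∀ v ∈ B.U, v ≠ 0 → ∀ a : G, a • v = v → a ∈ B.C1 := by
      -- the stabiliser of a vector of the first block is the pointwise stabiliser
      intro v hv hv0 a ha
      by_contra hnot
      obtain ⟨hsq, heq⟩ := eq_on_of_orbit_le_two h2 (MulAction.stabilizer G v) (hA v hv hv0) (horb v hv hv0)
      -- the stabiliser has order at most four
      set S := MulAction.stabilizer G v
      have hC2le : ∀ A : Subgroup G, A ≤ B.C1 → Nat.card A ≤ 2 := by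
        intro A hAC
        refine card_le_two h2 A (fun b hb w hw => B.in_W h2 (hU b u hu hu0 (hAC hb u hu)) hw)
          (fun b hb hbw => B.ext_two h2 hf (hAC hb) hbw) fun w hw x hx y hy => ?_
        exact horb u hu hu0 w hw x (hAC hx u hu) y (hAC hy u hu)
      have hcC : Nat.card B.C1 = 2 := le_antisymm (hC2le B.C1 le_rfl) (by
        have := (Subgroup.one_lt_card_iff_ne_bot _).2 hC
        omega)
      have hcS : (c : G) ∈ S := c.2 v hv
      have hcv : ∃ w ∈ B.W, (c : G) • w ≠ w := by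
        by_contra h
        push Not at h
        exact hc1 (Subtype.ext (B.ext_two h2 hf c.2 h))
      have hC1elt : ∀ x ∈ B.C1, x = 1 ∨ x = (c : G) := by
        intro x hx
        by_contra hne
        push Not at hne
        haveI := Fintype.ofFinite B.C1
        rw [Nat.card_eq_fintype_card] at hcC
        have h4 := Finset.card_le_univ ({1, c, ⟨x, hx⟩} : Finset B.C1)
        rw [Finset.card_eq_three.2 ⟨1, c, ⟨x, hx⟩, Ne.symm hc1,
          fun e => hne.1 (congrArg Subtype.val e).symm, fun e => hne.2 (congrArg Subtype.val e).symm, rfl⟩,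
          hcC] at h4
        omega
      -- a non-trivial element fixing the second block pointwise lies in `S`
      have hex : ∃ k : G, k ∈ S ∧ k ≠ 1 ∧ ∀ w ∈ B.W, k • w = w := by
        by_cases hatriv : ∀ w ∈ B.W, a • w = w
        · exact ⟨a, ha, fun e => hnot (e ▸ B.C1.one_mem), hatriv⟩
        · push Not at hatriv
          refine ⟨a⁻¹ * c, mul_mem (inv_mem ha) hcS, fun e => hnot ?_, fun w hw => ?_⟩
          · rw [inv_mul_eq_one] at e; rw [e]; exact c.2
          · rw [mul_smul, inv_smul_eq_iff]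
            exact (heq a ha c hcS hatriv hcv w hw).symm
      obtain ⟨k, hkS, hk1, hkW⟩ := hex
      have hk' : g⁻¹ * k * g = (c : G) := (hC1elt _ (hconjW k hkW)).resolve_left fun e =>
        hk1 (by calc k = g * (g⁻¹ * k * g) * g⁻¹ := by group
                     _ = 1 := by rw [e]; group)
      -- now every stabiliser has order four and `k` fixes the first block as well
      have h4 : 3 ≤ Nat.card S := by
        haveI := Fintype.ofFinite S
        rw [Nat.card_eq_fintype_card]
        refine le_of_eq_of_le ?_ (Finset.card_le_univ ({1, ⟨c, hcS⟩, ⟨k, hkS⟩} : Finset S))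
        refine (Finset.card_eq_three.2 ⟨(1 : S), (⟨c, hcS⟩ : S), (⟨k, hkS⟩ : S), fun e => hc1 (Subtype.ext (congrArg Subtype.val e).symm),
          fun e => hk1 (congrArg Subtype.val e).symm, fun e => ?_, rfl⟩).symm
        obtain ⟨w, hw, hne⟩ := hcv
        exact hne (by rw [show (c : G) = k from congrArg Subtype.val e]; exact hkW w hw)
      have hall : ∀ v' ∈ B.U, v' ≠ 0 → k • v' = v' := by
        intro v' hv' hv0'
        by_contra hkv
        set S' := MulAction.stabilizer G v'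
        obtain ⟨-, heq'⟩ := eq_on_of_orbit_le_two h2 S' (hA v' hv' hv0') (horb v' hv' hv0')
        have hbound : Nat.card S' ≤ 2 := by
          have hS'C : S' ≤ B.C1 := by
            intro b hb
            by_cases hbt : ∀ w ∈ B.W, b • w = w
            · rcases hC1elt _ (hconjW b hbt) with e | e
              · have : b = 1 := by
                  calc b = g * (g⁻¹ * b * g) * g⁻¹ := by group
                    _ = 1 := by rw [e]; group
                rw [this]; exact B.C1.one_mem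
              · exfalso
                rw [← hk', mul_left_inj, mul_right_inj] at e
                exact hkv (e ▸ hb)
            · push Not at hbt
              have hbc : ∀ w ∈ B.W, (b⁻¹ * c) • w = w := fun w hw => by
                rw [mul_smul, inv_smul_eq_iff]
                exact (heq' b hb c (c.2 v' hv') hbt hcv w hw).symm
              rcases hC1elt _ (hconjW _ hbc) with e | e
              · have : b⁻¹ * (c : G) = 1 := by
                  calc b⁻¹ * (c : G) = g * (g⁻¹ * (b⁻¹ * c) * g) * g⁻¹ := by group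
                    _ = 1 := by rw [e]; group
                rw [inv_mul_eq_one] at this
                rw [this]; exact c.2
              · exfalso
                have h5 : b⁻¹ * (c : G) = k := mul_left_cancel (mul_right_cancel (e.trans hk'.symm))
                have h6 : b⁻¹ * (c : G) ∈ S' := mul_mem (inv_mem hb) (c.2 v' hv')
                rw [h5] at h6
                exact hkv h6
          exact hC2le S' hS'C
        rw [hE v' v hv0' hv0] at hbound
        change Nat.card S ≤ 2 at hbound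
        omega
      refine hk1 (B.ext_two h2 hf (fun v' hv' => ?_) hkW)
      by_cases hv0' : v' = 0
      · rw [hv0', smul_zero]
      · exact hall v' hv' hv0'
    have hs : ∀ v : V, v ≠ 0 → Nat.card (MulAction.stabilizer G v) = 2 := by
      intro v hv0
      rw [hE v u hv0 hu0]
      refine le_antisymm (card_le_two h2 _ (hA u hu hu0) ?_ (horb u hu hu0)) ?_
      · exact fun b hb hbw => B.ext_two h2 hf (hC1 u hu hu0 b hb) hbw
      · have := (Subgroup.one_lt_card_iff_ne_bot _).2 (hns u hu0)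
        omega
    have hswap : ∀ v ∈ B.U, v ≠ 0 → ∀ w ∈ B.W, w ≠ 0 → ∃ h : G, h ∉ B.H ∧ h • v = w ∧ h • w = v := by
      intro v hv hv0 w hw hw0
      have hvw : v + w ≠ 0 := fun h => hv0 ((B.sum_unique h2 hv B.U.zero_mem hw B.W.zero_mem
        (by rw [h, add_zero])).1)
      obtain ⟨t, ht1⟩ := (Subgroup.ne_bot_iff_exists_ne_one.1 (hns _ hvw))
      obtain ⟨hin, hout⟩ := B.swap_or_small h2 hE hv hw t.2
      have htH : (t : G) ∉ B.H := by
        intro htH
        obtain ⟨h1, h3⟩ := hin htH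
        have htC : (t : G) ∈ B.C1 := hC1 v hv hv0 t h1
        have hgw : g⁻¹ • w ∈ B.U := B.out_W h2 hg' hw
        have hgw0 : g⁻¹ • w ≠ 0 := fun e => hw0 ((smul_eq_zero_iff_eq g⁻¹).1 e)
        have hW : ∀ w' ∈ B.W, (t : G) • w' = w' := by
          intro w' hw'
          have h5 : g⁻¹ * t * g ∈ B.C1 := hC1 _ hgw hgw0 _ (by
            rw [mul_smul, mul_smul, smul_inv_smul, h3])
          have h6 := h5 _ (B.out_W h2 hg' hw')
          rwa [mul_smul, mul_smul, smul_inv_smul, smul_left_cancel_iff] at h6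
        exact ht1 (Subtype.ext (B.ext_two h2 hf htC hW))
      exact ⟨t, htH, hout htH⟩
    obtain ⟨⟨j, hj⟩, -⟩ := B.transitive h2 hE hG hs hq2 hu hu0 ⊥ bot_le (fun h => by
      have h1 : g • u ∈ B.W := B.out_U h2 hg hu
      rw [← h, AddSubgroup.mem_bot, smul_eq_zero_iff_eq] at h1
      exact hu0 h1) fun w hw hwC => by
        obtain ⟨h, h1, h3, -⟩ := hswap u hu hu0 w hw (fun e => hwC (by rw [e]; exact zero_mem _))
        exact ⟨h, h1, h3⟩
    rcases pow_eq_two_pow_succ hq hq2 hd0 (hd.symm.trans hj) with rfl | h9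
    swap
    · exact Or.inl (hnine h9)
    right
    rw [pow_one] at hd
    have hUq : Nat.card B.U = q := by rw [B.card_U_eq h2, hd]
    refine ⟨by rw [B.card_V h2, hUq, hd, sq], ⟨j, hd.symm.trans hj⟩, u, g • u, ?_⟩
    set w := g • u
    have hw : w ∈ B.W := B.out_U h2 hg hu
    have hw0 : w ≠ 0 := fun e => hu0 ((smul_eq_zero_iff_eq g).1 e)
    have hUc : ∀ c : ZMod q, c • u ∈ B.U := fun c => by
      show B.e • (c • u) = c • u
      rw [hlin, B.he0]
    have hWc : ∀ c : ZMod q, c • w ∈ B.W := fun c => by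
      show B.e • (c • w) = -(c • w)
      rw [hlin, show B.e • w = -w from hw, smul_neg]
    have hne : ∀ {x : V}, x ≠ 0 → ∀ {c : ZMod q}, c ≠ 0 → c • x ≠ 0 := fun hx _ hc h =>
      hx ((smul_eq_zero.1 h).resolve_left hc)
    have hinjU : ∀ {a b : ZMod q}, a • u = b • u → a = b := fun {a b} h => by
      by_contra hab
      exact hne hu0 (sub_ne_zero.2 hab) (by rw [sub_smul, h, sub_self])
    have hinjW : ∀ {a b : ZMod q}, a • w = b • w → a = b := fun {a b} h => by
      by_contra hab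
      exact hne hw0 (sub_ne_zero.2 hab) (by rw [sub_smul, h, sub_self])
    obtain ⟨k0, hk0, hk0u, hk0w⟩ := hswap u hu hu0 w hw hw0
    -- elements with prescribed diagonal `(a, a⁻¹)`
    have hdiag : ∀ a : ZMod q, a ≠ 0 → ∃ h : G, h • u = a • u ∧ h • w = a⁻¹ • w := by
      intro a ha
      obtain ⟨k, hk, hku, hkw⟩ := hswap u hu hu0 (a⁻¹ • w) (hWc _) (hne hw0 (inv_ne_zero ha))
      refine ⟨k * k0, ?_, ?_⟩
      · rw [mul_smul, hk0u, show w = a • (a⁻¹ • w) by rw [smul_smul, mul_inv_cancel₀ ha, one_smul], hlin, hkw]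
      · rw [mul_smul, hk0w, hku]
    have hstab : ∀ h : G, h • u = u → ∃ s : ZMod q, (s = 1 ∨ s = -1) ∧ h • w = s • w := by
      intro h hh
      obtain ⟨s, hs'⟩ := exists_smul_of_card_eq hd hw hw0 (B.in_W h2 (hU h u hu hu0 hh) hw)
      refine ⟨s, mul_self_eq_one_iff.1 (hinjW ?_), hs'.symm⟩
      obtain ⟨hsq, -⟩ := eq_on_of_orbit_le_two h2 (MulAction.stabilizer G u) (hA u hu hu0) (horb u hu hu0)
      have h3 := hsq h hh w hw
      rw [← hs', hlin, ← hs', smul_smul] at h3
      rw [one_smul]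
      exact h3
    have hin : ∀ h ∈ B.H, ∃ a s : ZMod q, a ≠ 0 ∧ (s = 1 ∨ s = -1) ∧ h • u = a • u ∧
        h • w = (s * a⁻¹) • w := by
      intro h hh
      obtain ⟨a, ha⟩ := exists_smul_of_card_eq hUq hu hu0 (B.in_U h2 hh hu)
      have ha0 : a ≠ 0 := fun e => hu0 ((smul_eq_zero_iff_eq h).1 (by rw [← ha, e, zero_smul]))
      obtain ⟨k, hku, hkw⟩ := hdiag a ha0
      obtain ⟨s, hs', hkh⟩ := hstab (k⁻¹ * h) (by rw [mul_smul, ← ha, ← hku, inv_smul_smul])
      refine ⟨a, s, ha0, hs', ha.symm, ?_⟩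
      rw [mul_smul, inv_smul_eq_iff, hlin, hkw, smul_smul s a⁻¹] at hkh
      exact hkh
    refine ⟨⟨?_, ?_⟩, fun h => ?_, fun a s ha hs' => ?_⟩
    · rintro ⟨a, b⟩ ⟨a', b'⟩ h
      obtain ⟨e1, e2⟩ := B.sum_unique h2 (hUc a) (hUc a') (hWc b) (hWc b') h
      exact Prod.ext (hinjU e1) (hinjW e2)
    · intro v
      have hcard : Nat.card V ≤ Nat.card (ZMod q × ZMod q) := by
        rw [Nat.card_prod, Nat.card_zmod, B.card_V h2, hUq, hd]
      refine ((Function.Injective.bijective_of_nat_card_le ?_ hcard).2 v)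
      rintro ⟨a, b⟩ ⟨a', b'⟩ h
      obtain ⟨e1, e2⟩ := B.sum_unique h2 (hUc a) (hUc a') (hWc b) (hWc b') h
      exact Prod.ext (hinjU e1) (hinjW e2)
    · by_cases hh : h ∈ B.H
      · obtain ⟨a, s, ha, hs', e1, e2⟩ := hin h hh
        exact ⟨a, s, ha, hs', Or.inl ⟨e1, e2⟩⟩
      · obtain ⟨a, s, ha, hs', e1, e2⟩ := hin (k0 * h) (B.out_mul_out h2 hk0 hh)
        refine ⟨a, s, ha, hs', Or.inr ⟨?_, ?_⟩⟩
        · rw [mul_smul] at e1
          refine (smul_left_cancel_iff k0).1 (e1.trans ?_)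
          rw [hlin, hk0w]
        · rw [mul_smul] at e2
          refine (smul_left_cancel_iff k0).1 (e2.trans ?_)
          rw [hlin, hk0u]
    · have hcW : (c : G) • w ≠ w := by
        intro e
        have hw' : ∀ v ∈ B.W, (c : G) • v = v := by
          intro v hv
          obtain ⟨t, rfl⟩ := exists_smul_of_card_eq hd hw hw0 hv
          rw [hlin, e]
        exact hc1 (Subtype.ext (B.ext_two h2 hf c.2 hw'))
      obtain ⟨k, hku, hkw⟩ := hdiag a ha
      have hdiag' : ∃ h : G, h • u = a • u ∧ h • w = (s * a⁻¹) • w := by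
        rcases hs' with rfl | rfl
        · exact ⟨k, hku, by rw [one_mul]; exact hkw⟩
        · obtain ⟨s', hs'', hcs⟩ := hstab c (c.2 u hu)
          have : s' = -1 := hs''.resolve_left fun e => hcW (by rw [hcs, e, one_smul])
          subst this
          exact ⟨k * c, by rw [mul_smul, c.2 u hu, hku],
            by rw [mul_smul, hcs, hlin, hkw, smul_smul]⟩
      obtain ⟨h, e1, e2⟩ := hdiag'
      exact ⟨⟨h, e1, e2⟩, k0 * h, by rw [mul_smul, e1, hlin, hk0u], by rw [mul_smul, e2, hlin, hk0w]⟩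

end

end TwoBlocks

end CfsgLib.HalfTransitive
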