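import Cfsg.Agent.Lib.HalfTransitive.Imprimitive
import Cfsg.Agent.Lib.Transfer.PGroup
import Cfsg.Agent.S0016

/-!
# Half-transitive p-groups with a non-cyclic normal abelian subgroup
-/

set_option autoImplicit false
set_option linter.unusedSectionVars false
set_option linter.style.haveILetI false

namespace CfsgLib.HalfTransitive

variable {G V : Type*} [Group G] [Finite G] [AddCommGroup V] [DistribMulAction G V]

/-- A commutative `p`-group with one subgroup of order `p` is cyclic. -/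
theorem isCyclic_of_comm_unique {A : Type*} [Group A] [Finite A] {p : ℕ} [Fact p.Prime] (hA : IsPGroup p A)
    (hcomm : ∀ a b : A, a * b = b * a)
    (huniq : ∀ H K : Subgroup A, Nat.card H = p → Nat.card K = p → H = K) : IsCyclic A := by
  rcases Cfsg.Agent.S0016.result p hA huniq with h | ⟨-, n, ⟨φ⟩⟩
  · exact h
  rcases n with _ | n
  · refine isCyclic_of_orderOf_eq_card (φ.symm (QuaternionGroup.xa 0)) ?_
    rw [MulEquiv.orderOf_eq, QuaternionGroup.orderOf_xa, Nat.card_congr φ.toEquiv,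
      Nat.card_eq_fintype_card, QuaternionGroup.card]
    norm_num
  · exfalso
    have h := congrArg φ (hcomm (φ.symm (QuaternionGroup.a 1)) (φ.symm (QuaternionGroup.xa 0)))
    rw [map_mul, map_mul, φ.apply_symm_apply, φ.apply_symm_apply, QuaternionGroup.a_mul_xa,
      QuaternionGroup.xa_mul_a] at h
    have h1 : ((2 : ℕ) : ZMod (2 * 2 ^ (n + 1))) = 0 := by
      have h3 := QuaternionGroup.xa.inj h
      simp only [zero_sub, zero_add] at h3
      push_cast
      calc (2 : ZMod (2 * 2 ^ (n + 1))) = 1 - (-1) := by norm_num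
        _ = 0 := by rw [h3]; simp
    rw [ZMod.natCast_eq_zero_iff] at h1
    have h4 := Nat.le_of_dvd two_pos h1
    have h5 : 2 ≤ 2 ^ (n + 1) := Nat.le_self_pow (by omega) 2
    omega

/-- A non-cyclic normal abelian subgroup of a `p`-group contains an element of order `p` outside a given
central subgroup of order `p` that is central modulo it. -/
theorem exists_second_center {p : ℕ} [Fact p.Prime] (hG : IsPGroup p G) {A : Subgroup G} [hn : A.Normal]
    (hcomm : IsMulCommutative A) (hcyc : ¬ IsCyclic A) {z : G} (hz : z ∈ Subgroup.center G)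
    (hzo : orderOf z = p) :
    ∃ e : G, e ^ p = 1 ∧ e ∉ Subgroup.zpowers z ∧
      ∀ g : G, ∃ c ∈ Subgroup.zpowers z, g * e * g⁻¹ = e * c := by
  classical
  have hc : ∀ a ∈ A, ∀ b ∈ A, a * b = b * a := fun a ha b hb =>
    congrArg Subtype.val (hcomm.is_comm.comm ⟨a, ha⟩ ⟨b, hb⟩)
  let Ω : Subgroup G :=
    { carrier := {a | a ∈ A ∧ a ^ p = 1}
      one_mem' := ⟨one_mem A, one_pow p⟩
      mul_mem' := fun {a b} ha hb => ⟨mul_mem ha.1 hb.1, by
        rw [(show Commute a b from hc a ha.1 b hb.1).mul_pow, ha.2, hb.2, one_mul]⟩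
      inv_mem' := fun {a} ha => ⟨inv_mem ha.1, by rw [inv_pow, ha.2, inv_one]⟩ }
  have hΩn : Ω.Normal := ⟨fun a ha g => ⟨hn.conj_mem a ha.1 g, by rw [conj_pow, ha.2, mul_one, mul_inv_cancel]⟩⟩
  set Z := Subgroup.zpowers z
  have hZc : Z ≤ Subgroup.center G := Subgroup.zpowers_le.2 hz
  haveI hZn : Z.Normal := ⟨fun a ha g => by
    rw [Subgroup.mem_center_iff.1 (hZc ha) g, mul_inv_cancel_right]; exact ha⟩
  have hnot : ¬ Ω ≤ Z := by
    intro hle
    refine hcyc (isCyclic_of_comm_unique (hG.to_subgroup A) (fun a b => hcomm.is_comm.comm a b) ?_)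
    have key : ∀ H : Subgroup A, Nat.card H = p → H.map A.subtype = Z := by
      intro H hH
      refine Subgroup.eq_of_le_of_card_ge ?_ ?_
      · rintro _ ⟨a, ha, rfl⟩
        refine hle ⟨a.2, ?_⟩
        have h := congrArg (fun x : H => ((x : A) : G)) (pow_card_eq_one' (x := (⟨a, ha⟩ : H)))
        simpa [hH] using h
      · rw [Subgroup.card_map_of_injective A.subtype_injective, hH, Nat.card_zpowers, hzo]
    exact fun H K hH hK => Subgroup.map_injective A.subtype_injective ((key H hH).trans (key K hK).symm)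
  obtain ⟨a, haΩ, haZ⟩ := SetLike.not_le_iff_exists.1 hnot
  haveI : (Ω.map (QuotientGroup.mk' Z)).Normal := hΩn.map _ (QuotientGroup.mk'_surjective Z)
  haveI : Group.IsNilpotent (G ⧸ Z) := (hG.to_quotient Z).isNilpotent
  have hne : Ω.map (QuotientGroup.mk' Z) ≠ ⊥ := fun h => haZ (by
    rw [← QuotientGroup.eq_one_iff, ← Subgroup.mem_bot, ← h]
    exact Subgroup.mem_map_of_mem _ haΩ)
  obtain ⟨⟨x, hxm⟩, hx1⟩ := Subgroup.ne_bot_iff_exists_ne_one.1
    (CfsgLib.Transfer.inf_center_ne_bot (N := Ω.map (QuotientGroup.mk' Z)) hne)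
  obtain ⟨⟨e, he, rfl⟩, hxc⟩ := Subgroup.mem_inf.1 hxm
  refine ⟨e, he.2, fun h => hx1 (Subtype.ext ((QuotientGroup.eq_one_iff e).2 h)),
    fun g => ⟨e⁻¹ * (g * e * g⁻¹), ?_, (mul_inv_cancel_left _ _).symm⟩⟩
  rw [← QuotientGroup.eq_one_iff]
  simp only [QuotientGroup.mk_mul, QuotientGroup.mk_inv]
  rw [show (g : G ⧸ Z) * (e : G ⧸ Z) = (e : G ⧸ Z) * g from Subgroup.mem_center_iff.1 hxc g]
  group

variable (hE : EqualStab G V) (hf : ∀ g : G, (∀ v : V, g • v = v) → g = 1)
  {p : ℕ} (hcop : ∀ v : V, p • v = 0 → v = 0) {z : G} (hz : z ∈ Subgroup.center G) (hzo : orderOf z = p)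
  {e : G} (hep : e ^ p = 1)
include hE hf hcop hz hzo

theorem pow_mem_center_prop {c : G} (hc : c ∈ Subgroup.zpowers z) : c ∈ Subgroup.center G ∧ c ^ p = 1 := by
  obtain ⟨k, rfl⟩ := Subgroup.mem_zpowers_iff.1 hc
  refine ⟨Subgroup.zpow_mem _ hz k, ?_⟩
  rw [← zpow_natCast, ← zpow_mul, mul_comm, zpow_mul, zpow_natCast, ← hzo, pow_orderOf_eq_one, one_zpow]

include hep

/-- The projections onto the fixed spaces of the `e z ^ i`. -/
theorem sum_orbSum (v : V) : ∑ i ∈ Finset.range p, orbSum (e * z ^ i) p v = p • v := by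
  simp only [orbSum]
  rw [Finset.sum_comm]
  have hterm : ∀ k : ℕ, ∑ i ∈ Finset.range p, (e * z ^ i) ^ k • v = e ^ k • orbSum (z ^ k) p v := by
    intro k
    rw [orbSum, Finset.smul_sum]
    refine Finset.sum_congr rfl fun i _ => ?_
    rw [(show Commute e (z ^ i) from Subgroup.mem_center_iff.1 (Subgroup.pow_mem _ hz i) e).mul_pow, mul_smul,
      ← pow_mul, mul_comm i k, pow_mul]
  simp only [hterm]
  rcases Nat.eq_zero_or_pos p with rfl | hp
  · simp
  rw [Finset.sum_eq_single_of_mem 0 (Finset.mem_range.2 hp)]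
  · rw [pow_zero, pow_zero, one_smul, orbSum_of_fix (one_smul G v)]
  · intro k hk hk0
    have h1 : (z ^ k) ^ p = 1 := (pow_mem_center_prop hE hf hcop hz hzo (Subgroup.npow_mem_zpowers z k)).2
    rw [central_free hE hf hcop (Subgroup.pow_mem _ hz k) h1
      (pow_ne_one_of_lt_orderOf hk0 (by rw [hzo]; exact Finset.mem_range.1 hk)) (smul_orbSum h1 v), smul_zero]

theorem smul_eq_of_orbSum {h : G} {v : V}
    (hh : ∀ i ∈ Finset.range p, h • orbSum (e * z ^ i) p v = orbSum (e * z ^ i) p v) : h • v = v := by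
  refine sub_eq_zero.1 (hcop _ ?_)
  rw [smul_sub, ← smul_natmul, ← sum_orbSum hE hf hcop hz hzo hep, Finset.smul_sum, sub_eq_zero]
  exact Finset.sum_congr rfl hh

theorem mul_pow_eq_one {c : G} (hc : c ∈ Subgroup.zpowers z) : (e * c) ^ p = 1 := by
  obtain ⟨hcc, hcp⟩ := pow_mem_center_prop hE hf hcop hz hzo hc
  rw [(show Commute e c from Subgroup.mem_center_iff.1 hcc e).mul_pow, hep, hcp, one_mul]

/-- The projection attached to `e * a` on the fixed space of `e * f`. -/
theorem orbSum_fix_other {a f : G} (ha : a ∈ Subgroup.zpowers z) (hfm : f ∈ Subgroup.zpowers z)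
    (hne : a ≠ f) {x : V} (hx : (e * f) • x = x) : orbSum (e * a) p x = 0 := by
  have hd : a * f⁻¹ ∈ Subgroup.zpowers z := mul_mem ha (inv_mem hfm)
  obtain ⟨hdc, hdp⟩ := pow_mem_center_prop hE hf hcop hz hzo hd
  have hcomm : Commute (a * f⁻¹) (e * f) := (Subgroup.mem_center_iff.1 hdc (e * f)).symm
  have heq : e * a = a * f⁻¹ * (e * f) := by
    rw [hcomm.eq, mul_assoc, ← mul_assoc f,
      ((Subgroup.mem_center_iff.1 (pow_mem_center_prop hE hf hcop hz hzo ha).1 f)), mul_inv_cancel_right]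
  have h1 : orbSum (e * a) p x = orbSum (a * f⁻¹) p x := by
    refine Finset.sum_congr rfl fun k hk => ?_
    rw [heq, hcomm.mul_pow, mul_smul]
    congr 1
    clear hk
    induction k with
    | zero => simp
    | succ k ih => rw [pow_succ, mul_smul, hx, ih]
  rw [h1]
  exact central_free hE hf hcop hdc hdp (fun h => hne (mul_inv_eq_one.1 h)) (smul_orbSum hdp x)

/-- For odd `p`, non-zero vectors fixed by two different translates of `e` have the same stabiliser. -/
theorem stab_eq_of_ne (hodd : Odd p) (hconj : ∀ g : G, ∃ c ∈ Subgroup.zpowers z, g * e * g⁻¹ = e * c)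
    {c d : G} (hc : c ∈ Subgroup.zpowers z) (hd : d ∈ Subgroup.zpowers z) (hcd : c ≠ d)
    {u w : V} (hu0 : u ≠ 0) (hw0 : w ≠ 0) (hu : (e * c) • u = u) (hw : (e * d) • w = w) :
    MulAction.stabilizer G u = MulAction.stabilizer G w := by
  have huw : u + w ≠ 0 := by
    intro h
    have h1 := orbSum_fix_other hE hf hcop hz hzo hep hc hd hcd hw
    rw [eq_neg_of_add_eq_zero_right h, orbSum_of_fix (by rw [smul_neg, hu])] at h1
    exact hu0 (neg_eq_zero.1 (hcop _ h1))
  have hsub : ∀ h : G, h • (u + w) = u + w → h • u = u ∧ h • w = w := by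
    intro h hh
    rw [smul_add] at hh
    obtain ⟨k, hk, hke⟩ := hconj h
    have himg : ∀ f ∈ Subgroup.zpowers z, ∀ x : V, (e * f) • x = x → (e * (k * f)) • (h • x) = h • x := by
      intro f hfm x hx
      have hfc := Subgroup.mem_center_iff.1 (pow_mem_center_prop hE hf hcop hz hzo hfm).1
      rw [← mul_assoc, ← hke, mul_assoc (h * e) h⁻¹ f, hfc h⁻¹, ← mul_smul, mul_assoc, mul_assoc f,
        inv_mul_cancel, mul_one, mul_assoc, mul_smul, hx]
    have hu' := himg c hc u hu
    have hw' := himg d hd w hw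
    have hkc := mul_mem hk hc
    have hkd := mul_mem hk hd
    have Pc := congrArg (orbSum (e * c) p) hh
    rw [orbSum_add, orbSum_add, orbSum_of_fix hu, orbSum_fix_other hE hf hcop hz hzo hep hc hd hcd hw,
      add_zero] at Pc
    by_cases hk1 : k = 1
    · rw [hk1, one_mul] at hu' hw'
      rw [orbSum_of_fix hu', orbSum_fix_other hE hf hcop hz hzo hep hc hd hcd hw', add_zero] at Pc
      have h2 : h • u = u := sub_eq_zero.1 (hcop _ (by rw [smul_sub, Pc, sub_self]))
      rw [h2] at hh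
      exact ⟨h2, add_left_cancel hh⟩
    exfalso
    have hcne : c ≠ k * c := fun e' => hk1 (mul_eq_right.1 e'.symm)
    have hdne : d ≠ k * d := fun e' => hk1 (mul_eq_right.1 e'.symm)
    rw [orbSum_fix_other hE hf hcop hz hzo hep hc hkc hcne hu', zero_add] at Pc
    by_cases hkdc : c = k * d
    swap
    · rw [orbSum_fix_other hE hf hcop hz hzo hep hc hkd hkdc hw'] at Pc
      exact hu0 (hcop u Pc.symm)
    have Pd := congrArg (orbSum (e * d) p) hh
    rw [orbSum_add, orbSum_add, orbSum_of_fix hw, orbSum_fix_other hE hf hcop hz hzo hep hd hc hcd.symm hu,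
      zero_add, orbSum_fix_other hE hf hcop hz hzo hep hd hkd hdne hw', add_zero] at Pd
    by_cases hkcd : d = k * c
    swap
    · rw [orbSum_fix_other hE hf hcop hz hzo hep hd hkc hkcd hu'] at Pd
      exact hw0 (hcop w Pd.symm)
    have hkk : k * k = 1 := by
      refine (mul_eq_right (b := c)).1 ?_
      rw [mul_assoc, ← hkcd, ← hkdc]
    obtain ⟨r, hr⟩ := hodd
    refine hk1 ?_
    have := (pow_mem_center_prop hE hf hcop hz hzo hk).2
    rwa [hr, pow_succ, pow_mul, sq, hkk, one_pow, one_mul] at this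
  exact (Subgroup.eq_of_le_of_card_ge (fun h hh => (hsub h hh).1) (hE u _ hu0 huw).le).symm.trans
    (Subgroup.eq_of_le_of_card_ge (fun h hh => (hsub h hh).2) (hE w _ hw0 huw).le)

omit hep hzo hz in
/-- A non-cyclic normal abelian subgroup forces `p = 2` and gives two blocks. -/
theorem twoBlocks_of_noncyclic [Fact p.Prime] [Nontrivial V] (hG : IsPGroup p G) {A : Subgroup G} [A.Normal]
    (hcomm : IsMulCommutative A) (hcyc : ¬ IsCyclic A)
    (hns : ∀ v : V, v ≠ 0 → MulAction.stabilizer G v ≠ ⊥) : p = 2 ∧ Nonempty (TwoBlocks G V) := by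
  classical
  haveI : Nontrivial G := by
    obtain ⟨v, hv⟩ := exists_ne (0 : V)
    obtain ⟨x, hx⟩ := Subgroup.ne_bot_iff_exists_ne_one.1 (hns v hv)
    exact nontrivial_of_ne _ _ fun h => hx (Subtype.ext h)
  haveI := hG.center_nontrivial
  obtain ⟨⟨z, hz⟩, hzo⟩ : ∃ z : Subgroup.center G, orderOf z = p :=
    exists_prime_orderOf_dvd_card' p (by
      obtain ⟨n, hn0, hn⟩ := ((hG.to_subgroup (Subgroup.center G)).nontrivial_iff_card).1 inferInstance
      rw [hn]; exact dvd_pow_self p hn0.ne')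
  rw [← Subgroup.orderOf_coe] at hzo
  replace hzo : orderOf z = p := hzo
  have hzp : z ^ p = 1 := by rw [← hzo]; exact pow_orderOf_eq_one z
  have hz1 : z ≠ 1 := fun h => by
    rw [h, orderOf_one] at hzo
    exact (Fact.out : p.Prime).ne_one hzo.symm
  obtain ⟨e0, he0p, he0Z, he0c⟩ := exists_second_center hG hcomm hcyc hz hzo
  obtain ⟨v, hv⟩ := exists_ne (0 : V)
  obtain ⟨i, -, hi⟩ : ∃ i ∈ Finset.range p, orbSum (e0 * z ^ i) p v ≠ 0 := by
    by_contra h
    push Not at h
    refine hv (hcop v ?_)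
    rw [← sum_orbSum hE hf hcop hz hzo he0p, Finset.sum_eq_zero h]
  set e := e0 * z ^ i with he
  have hzi : z ^ i ∈ Subgroup.zpowers z := Subgroup.npow_mem_zpowers z i
  have hep : e ^ p = 1 := mul_pow_eq_one hE hf hcop hz hzo he0p hzi
  set u := orbSum e p v
  have hu : e • u = u := smul_orbSum hep v
  have hconj : ∀ g : G, ∃ c ∈ Subgroup.zpowers z, g * e * g⁻¹ = e * c := by
    intro g
    obtain ⟨c, hc, hce⟩ := he0c g
    refine ⟨c, hc, ?_⟩
    have h1 := Subgroup.mem_center_iff.1 (Subgroup.pow_mem _ hz i)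
    rw [he, ← mul_assoc g, mul_assoc (g * e0), ← h1, ← mul_assoc, hce, mul_assoc, h1, mul_assoc]
  have he1 : e ≠ 1 := fun h => he0Z (by
    rw [he] at h
    rw [eq_inv_of_mul_eq_one_left h]
    exact inv_mem hzi)
  obtain ⟨g, z', hz', hge, hz'1⟩ : ∃ g, ∃ z' ∈ Subgroup.zpowers z, g * e * g⁻¹ = e * z' ∧ z' ≠ 1 := by
    by_contra h
    push Not at h
    refine hi (central_free hE hf hcop (Subgroup.mem_center_iff.2 fun g => ?_) hep he1 hu)
    obtain ⟨c, hc, hce⟩ := hconj g
    rw [h g c hc hce, mul_one] at hce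
    exact mul_inv_eq_iff_eq_mul.1 hce
  have hgu : (e * z') • (g • u) = g • u := by rw [← hge, mul_smul, inv_smul_smul, mul_smul, hu]
  have hgu0 : g • u ≠ 0 := fun h => hi ((smul_eq_zero_iff_eq g).1 h)
  have hp2 : p = 2 := by
    by_contra hp2
    have hodd := (Fact.out : p.Prime).odd_of_ne_two hp2
    have hu' : (e * 1) • u = u := by rw [mul_one, hu]
    have huw := stab_eq_of_ne hE hf hcop hz hzo hep hodd hconj (one_mem _) hz' hz'1.symm hi hgu0 hu' hgu
    obtain ⟨h, hh⟩ := Subgroup.ne_bot_iff_exists_ne_one.1 (hns u hi)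
    refine hh (Subtype.ext (hf h fun x => smul_eq_of_orbSum hE hf hcop hz hzo hep fun j _ => ?_))
    by_cases hx0 : orbSum (e * z ^ j) p x = 0
    · rw [hx0, smul_zero]
    have hzj : z ^ j ∈ Subgroup.zpowers z := Subgroup.npow_mem_zpowers z j
    have hfix := smul_orbSum (mul_pow_eq_one hE hf hcop hz hzo hep hzj) x
    have hh' : MulAction.stabilizer G u = MulAction.stabilizer G (orbSum (e * z ^ j) p x) := by
      by_cases hj : z ^ j = 1
      · exact huw.trans (stab_eq_of_ne hE hf hcop hz hzo hep hodd hconj hz' hzj (by rw [hj]; exact hz'1) hgu0 hx0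
          hgu hfix)
      · exact stab_eq_of_ne hE hf hcop hz hzo hep hodd hconj (one_mem _) hzj (Ne.symm hj) hi hx0 hu' hfix
    exact (SetLike.ext_iff.1 hh' (h : G)).1 h.2
  subst hp2
  refine ⟨rfl, ⟨?_⟩⟩
  have hneg : ∀ x : V, z • x = -x := fun x => by
    have h := central_free hE hf hcop hz hzp hz1 (smul_orbSum hzp x)
    simp only [orbSum, Finset.sum_range_succ, Finset.sum_range_zero, zero_add, pow_zero, pow_one, one_smul] at h
    exact eq_neg_of_add_eq_zero_right h
  have hz2 : ∀ c ∈ Subgroup.zpowers z, c = 1 ∨ c = z := by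
    intro c hc
    obtain ⟨k, rfl⟩ := Subgroup.mem_zpowers_iff.1 hc
    rcases Int.even_or_odd' k with ⟨l, rfl | rfl⟩
    · exact Or.inl (by rw [zpow_mul, zpow_ofNat, hzp, one_zpow])
    · exact Or.inr (by rw [zpow_add_one, zpow_mul, zpow_ofNat, hzp, one_zpow, one_mul])
  have hz'z : z' = z := (hz2 z' hz').resolve_left hz'1
  have hrule : ∀ h : G, h * e * h⁻¹ = e * z → ∀ x : V, h • (e • x) = -(e • (h • x)) := fun h hh x => by
    rw [← smul_neg, ← hneg, ← mul_smul e z, ← hh, ← mul_smul, ← mul_smul, inv_mul_cancel_right]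
  refine ⟨e, g, u, hi, hu, fun x => by rw [← mul_smul, ← sq, hep, one_smul],
    hrule g (hz'z ▸ hge), fun h => ?_⟩
  obtain ⟨c, hc, hce⟩ := hconj h
  rcases hz2 c hc with rfl | rfl
  · rw [mul_one] at hce
    exact Or.inl (mul_inv_eq_iff_eq_mul.1 hce)
  · exact Or.inr (hrule h hce)

end CfsgLib.HalfTransitive
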