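import Mathlib

/-!
# Half-transitive coprime linear groups: elementary facts
-/

set_option autoImplicit false

namespace CfsgLib.HalfTransitive

variable {G V : Type*} [Group G] [Finite G] [AddCommGroup V] [DistribMulAction G V]

/-- All stabilisers of non-zero vectors have the same order. -/
def EqualStab (G V : Type*) [Group G] [AddCommGroup V] [DistribMulAction G V] : Prop :=
  ∀ v w : V, v ≠ 0 → w ≠ 0 →
    Nat.card (MulAction.stabilizer G v) = Nat.card (MulAction.stabilizer G w)

/-- The fixed points of an element. -/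
def fix (V : Type*) [AddCommGroup V] [DistribMulAction G V] (g : G) : AddSubgroup V where
  carrier := {v | g • v = v}
  zero_mem' := smul_zero g
  add_mem' := fun {a b} ha hb => by
    show g • (a + b) = a + b
    rw [smul_add, show g • a = a from ha, show g • b = b from hb]
  neg_mem' := fun {a} ha => by
    show g • (-a) = -a
    rw [smul_neg, show g • a = a from ha]

omit [Finite G] in
theorem mem_fix {g : G} {v : V} : v ∈ fix V g ↔ g • v = v := Iff.rfl

/-- The sum of the translates of `v` by the powers of an element of order dividing `p`. -/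
def orbSum (g : G) (p : ℕ) (v : V) : V := ∑ k ∈ Finset.range p, g ^ k • v

omit [Finite G] in
theorem smul_orbSum {g : G} {p : ℕ} (hg : g ^ p = 1) (v : V) : g • orbSum g p v = orbSum g p v := by
  rw [orbSum, Finset.smul_sum]
  simp only [← mul_smul, ← pow_succ']
  cases p with
  | zero => simp
  | succ m =>
    rw [Finset.sum_range_succ (fun k => g ^ (k + 1) • v), hg, one_smul,
      Finset.sum_range_succ' (fun k => g ^ k • v), pow_zero, one_smul]

omit [Finite G] in
theorem orbSum_of_fix {g : G} {p : ℕ} {v : V} (hv : g • v = v) : orbSum g p v = p • v := by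
  have h : ∀ k : ℕ, g ^ k • v = v := fun k => by
    induction k with
    | zero => simp
    | succ k ih => rw [pow_succ, mul_smul, hv, ih]
  simp [orbSum, h]

omit [Finite G] in
theorem smul_orbSum_comm {g h : G} (hgh : Commute h g) (p : ℕ) (v : V) :
    h • orbSum g p v = orbSum g p (h • v) := by
  rw [orbSum, orbSum, Finset.smul_sum]
  refine Finset.sum_congr rfl fun k _ => ?_
  rw [← mul_smul, ← mul_smul, (hgh.pow_right k).eq]

omit [Finite G] in
theorem orbSum_add (g : G) (p : ℕ) (v w : V) : orbSum g p (v + w) = orbSum g p v + orbSum g p w := by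
  simp [orbSum, Finset.sum_add_distrib]

omit [Finite G] in
theorem smul_natmul (g : G) (n : ℕ) (v : V) : g • (n • v) = n • (g • v) :=
  map_nsmul (DistribSMul.toAddMonoidHom V g) n v

/-- A central element of order `p` of a half-transitive faithful group fixes no non-zero vector. -/
theorem central_free (hE : EqualStab G V) (hfaith : ∀ g : G, (∀ v : V, g • v = v) → g = 1)
    {p : ℕ} (hcop : ∀ v : V, p • v = 0 → v = 0) {z : G} (hz : z ∈ Subgroup.center G) (hzp : z ^ p = 1)
    (hz1 : z ≠ 1) {v : V} (hv : z • v = v) : v = 0 := by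
  classical
  by_contra hv0
  have key : ∀ w : V, orbSum z p w = 0 → w = 0 := by
    intro w hw
    by_contra hw0
    have hne : v + w ≠ 0 := fun h => by
      rw [eq_neg_of_add_eq_zero_right h] at hw
      have : orbSum z p (-v) = p • (-v) := orbSum_of_fix (by rw [smul_neg, hv])
      rw [this] at hw
      exact hv0 (neg_eq_zero.1 (hcop _ hw))
    have hsub : ∀ g : G, g • (v + w) = v + w → g • v = v ∧ g • w = w := by
      intro g hg
      have hc : Commute g z := Subgroup.mem_center_iff.1 hz g
      have hgw : orbSum z p (g • w) = 0 := by rw [← smul_orbSum_comm hc, hw, smul_zero]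
      have hgv : orbSum z p (g • v) = p • (g • v) :=
        orbSum_of_fix (by rw [← mul_smul, ← hc.eq, mul_smul, hv])
      have h1 := congrArg (orbSum z p) hg
      rw [smul_add, orbSum_add, orbSum_add, hgw, hgv, hw, orbSum_of_fix hv] at h1
      have h2 : g • v = v := by
        refine sub_eq_zero.1 (hcop _ ?_)
        rw [smul_sub, add_zero, add_zero] at *
        exact sub_eq_zero.2 h1
      refine ⟨h2, ?_⟩
      rw [smul_add, h2] at hg
      exact add_left_cancel hg
    have h1 : MulAction.stabilizer G (v + w) = MulAction.stabilizer G v :=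
      Subgroup.eq_of_le_of_card_ge (fun g hg => (hsub g hg).1) (hE v _ hv0 hne).le
    have h2 : MulAction.stabilizer G (v + w) = MulAction.stabilizer G w :=
      Subgroup.eq_of_le_of_card_ge (fun g hg => (hsub g hg).2) (hE w _ hw0 hne).le
    have hzw : z • w = w := by
      have hzm : z ∈ MulAction.stabilizer G v := hv
      rw [← h1, h2] at hzm
      exact hzm
    rw [orbSum_of_fix hzw] at hw
    exact hw0 (hcop w hw)
  refine hz1 (hfaith z fun u => ?_)
  have hlin : orbSum z p (p • u) = p • orbSum z p u := by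
    simp only [orbSum, Finset.smul_sum, smul_natmul]
  have h1 : p • u - orbSum z p u = 0 := key _ (by
    have := orbSum_add z p (p • u - orbSum z p u) (orbSum z p u)
    rw [sub_add_cancel, hlin, orbSum_of_fix (smul_orbSum hzp u)] at this
    exact left_eq_add.1 (by rw [add_comm]; exact this))
  rw [sub_eq_zero] at h1
  refine sub_eq_zero.1 (hcop _ ?_)
  rw [smul_sub, ← smul_natmul, h1, smul_orbSum hzp, sub_self]

omit [Finite G] in
theorem eq_zero_of_two_nsmul {v : V} (h2 : ∀ u : V, 2 • u = 0 → u = 0) (h : v = -v) : v = 0 :=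
  h2 v (by rw [two_nsmul]; exact add_eq_zero_iff_eq_neg.2 h)

omit [Finite G] in
/-- A subgroup with all orbits of at most two points induces at most one non-trivial map. -/
theorem eq_on_of_orbit_le_two {W : AddSubgroup V} (h2 : ∀ u : V, 2 • u = 0 → u = 0) (A : Subgroup G)
    (hA : ∀ a ∈ A, ∀ w ∈ W, a • w ∈ W)
    (horb : ∀ w ∈ W, ∀ a ∈ A, ∀ b ∈ A, a • w ≠ w → b • w ≠ w → a • w = b • w) :
    (∀ a ∈ A, ∀ w ∈ W, a • (a • w) = w) ∧
      ∀ a ∈ A, ∀ b ∈ A, (∃ w ∈ W, a • w ≠ w) → (∃ w ∈ W, b • w ≠ w) → ∀ w ∈ W, a • w = b • w := by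
  classical
  have hd : ∀ u : V, u ≠ 0 → u ≠ -u := fun u hu h => hu (eq_zero_of_two_nsmul h2 h)
  have hsq : ∀ a ∈ A, ∀ w ∈ W, a • (a • w) = w := by
    intro a ha w hw
    by_contra h
    have h1 : a • w ≠ w := fun e => h (by rw [e, e])
    have h3 := horb w hw a ha (a * a) (mul_mem ha ha) h1 (by rwa [mul_smul])
    rw [mul_smul, smul_left_cancel_iff] at h3
    exact h1 h3.symm
  have hneg : ∀ a ∈ A, (∃ w ∈ W, a • w ≠ w) → ∃ x ∈ W, x ≠ 0 ∧ a • x = -x := by
    intro a ha ha1
    obtain ⟨w, hw, hne⟩ := ha1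
    exact ⟨w - a • w, sub_mem hw (hA a ha w hw), sub_ne_zero.2 (Ne.symm hne),
      by rw [smul_sub, hsq a ha w hw, neg_sub]⟩
  have main : ∀ a ∈ A, ∀ b ∈ A, ∀ x ∈ W, x ≠ 0 → a • x = -x → b • x = x →
      ∀ w ∈ W, b • w = w := by
    intro a ha b hb x hx hx0 hax hbx
    by_contra hb1
    push Not at hb1
    obtain ⟨y, hy, hy0, hby⟩ := hneg b hb hb1
    have hbn : b • y ≠ y := by rw [hby]; exact (hd y hy0).symm
    have hxy : x ≠ y := fun e => hbn (by rw [← e, hbx])
    have hxy' : x ≠ -y := fun e => hbn (by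
      have h := hbx
      rw [e, smul_neg, neg_inj] at h
      exact h)
    have hbs : b • (x + y) ≠ x + y := by
      rw [smul_add, hbx, hby]
      exact fun e => hd y hy0 (add_left_cancel e).symm
    have hay : a • y = y ∨ a • y = -y := by
      by_cases h : a • y = y
      · exact Or.inl h
      · exact Or.inr ((horb y hy a ha b hb h hbn).trans hby)
    have hsum : a • (x + y) = x + y ∨ a • (x + y) = x + -y := by
      by_cases h : a • (x + y) = x + y
      · exact Or.inl h
      · exact Or.inr ((horb _ (add_mem hx hy) a ha b hb h hbs).trans (by rw [smul_add, hbx, hby]))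
    rw [smul_add, hax] at hsum
    rcases hay with e | e <;> rw [e] at hsum
    · rcases hsum with h | h
      · exact hd x hx0 (add_right_cancel h).symm
      · exact hxy (sub_eq_zero.1 (h2 _ (by
          rw [two_nsmul]
          calc x - y + (x - y) = (x + -y) - (-x + y) := by abel
            _ = 0 := by rw [h, sub_self])))
    · rcases hsum with h | h
      · exact hxy' (eq_neg_of_add_eq_zero_left (h2 _ (by
          rw [two_nsmul]
          calc x + y + (x + y) = (x + y) - (-x + -y) := by abel
            _ = 0 := by rw [h, sub_self])))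
      · exact hd x hx0 (add_right_cancel h).symm
  refine ⟨hsq, fun a ha b hb ha1 hb1 w hw => ?_⟩
  obtain ⟨x, hx, hx0, hax⟩ := hneg a ha ha1
  by_cases hbx : b • x = x
  · obtain ⟨w', hw', hne⟩ := hb1
    exact absurd (main a ha b hb x hx hx0 hax hbx w' hw') hne
  · have h := horb x hx a ha b hb (by rw [hax]; exact (hd x hx0).symm) hbx
    rw [hax] at h
    have h1 : (a * b) • x = x := by rw [mul_smul, ← h, smul_neg, hax, neg_neg]
    have h3 := main a ha (a * b) (mul_mem ha hb) x hx hx0 hax h1 w hw
    rw [mul_smul] at h3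
    have h4 := congrArg (a • ·) h3
    rw [hsq a ha _ (hA b hb w hw)] at h4
    exact h4.symm

/-- A subgroup acting faithfully with all orbits of at most two points has order at most two. -/
theorem card_le_two {W : AddSubgroup V} (h2 : ∀ u : V, 2 • u = 0 → u = 0) (A : Subgroup G)
    (hA : ∀ a ∈ A, ∀ w ∈ W, a • w ∈ W)
    (hf : ∀ a ∈ A, (∀ w ∈ W, a • w = w) → a = 1)
    (horb : ∀ w ∈ W, ∀ a ∈ A, ∀ b ∈ A, a • w ≠ w → b • w ≠ w → a • w = b • w) :
    Nat.card A ≤ 2 := by
  classical
  obtain ⟨hsq, heq⟩ := eq_on_of_orbit_le_two h2 A hA horb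
  by_contra hc
  push Not at hc
  have hne : ∀ a ∈ A, a ≠ 1 → ∃ w ∈ W, a • w ≠ w := fun a ha h1 => by
    by_contra hh
    push Not at hh
    exact h1 (hf a ha hh)
  have hone : ∀ a ∈ A, ∀ b ∈ A, a ≠ 1 → b ≠ 1 → a = b := by
    intro a ha b hb a1 b1
    refine (inv_mul_eq_one.1 (hf _ (mul_mem (inv_mem ha) hb) fun w hw => ?_))
    rw [mul_smul, ← heq a ha b hb (hne a ha a1) (hne b hb b1) w hw, inv_smul_smul]
  haveI := Fintype.ofFinite A
  rw [Nat.card_eq_fintype_card, ← Finset.card_univ] at hc
  obtain ⟨x, y, z, -, -, -, hxy, hxz, hyz⟩ := Finset.two_lt_card_iff.1 hc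
  by_cases x1 : x = 1
  · subst x1
    exact hyz (Subtype.ext (hone y y.2 z z.2 (fun e => hxy (Subtype.ext e).symm)
      (fun e => hxz (Subtype.ext e).symm)))
  by_cases y1 : y = 1
  · subst y1
    exact hxz (Subtype.ext (hone x x.2 z z.2 (fun e => x1 (Subtype.ext e))
      (fun e => hyz (Subtype.ext e).symm)))
  exact hxy (Subtype.ext (hone x x.2 y y.2 (fun e => x1 (Subtype.ext e)) (fun e => y1 (Subtype.ext e))))

end CfsgLib.HalfTransitive
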