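import Cfsg.Agent.Lib.HalfTransitive.Basic

/-!
# Half-transitive dihedral and semidihedral groups
-/

set_option autoImplicit false
set_option linter.unusedSectionVars false
set_option linter.style.haveILetI false

namespace CfsgLib.HalfTransitive

/-- `q ^ d + 1 = 2 ^ k` for an odd `q` forces `d = 1`. -/
theorem eq_one_of_pow_add_one {q d k : ℕ} (hodd : Odd q) (hq : 3 ≤ q) (hd : d ≠ 0)
    (h : q ^ d + 1 = 2 ^ k) : d = 1 := by
  rcases Nat.even_or_odd' d with ⟨e, rfl | rfl⟩
  · exfalso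
    obtain ⟨r, hr⟩ : Odd (q ^ e) := hodd.pow
    rw [mul_comm 2 e, pow_mul, hr] at h
    have hr1 : 1 ≤ r := by
      have := Nat.le_self_pow (show e ≠ 0 by omega) q
      omega
    match k, h with
    | 0, h => simp at h
    | 1, h => nlinarith
    | k + 2, h =>
      have h4 : (4 : ℕ) ∣ 2 ^ (k + 2) := ⟨2 ^ k, by ring⟩
      rw [← h, show (2 * r + 1) ^ 2 + 1 = 4 * (r * r + r) + 2 by ring] at h4
      omega
  · by_contra hne
    have he : 1 ≤ e := by omega
    obtain ⟨a, hak, ha⟩ := (Nat.dvd_prime_pow Nat.prime_two).1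
      (h ▸ (by simpa using (show Odd (2 * e + 1) from ⟨e, rfl⟩).nat_add_dvd_pow_add_pow q 1) : q + 1 ∣ 2 ^ k)
    have hka : a + 1 ≤ k := by
      by_contra hc
      have hle : 2 ^ k ≤ 2 ^ a := Nat.pow_le_pow_right two_pos (by omega)
      have hlt : q ^ 1 < q ^ (2 * e + 1) := Nat.pow_lt_pow_right (by omega) (by omega)
      rw [pow_one] at hlt
      omega
    have hdvd : (q : ZMod (2 ^ (a + 1))) ^ (2 * e + 1) + 1 = 0 := by
      have h9 : ((q ^ (2 * e + 1) + 1 : ℕ) : ZMod (2 ^ (a + 1))) = 0 :=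
        (ZMod.natCast_eq_zero_iff _ _).2 (h.symm ▸ Nat.pow_dvd_pow 2 hka)
      rwa [Nat.cast_add, Nat.cast_pow, Nat.cast_one] at h9
    have hq' : (q : ZMod (2 ^ (a + 1))) = 2 ^ a - 1 := by
      have h9 := congrArg (fun n : ℕ => (n : ZMod (2 ^ (a + 1)))) ha
      simp only [Nat.cast_add, Nat.cast_pow, Nat.cast_one, Nat.cast_ofNat] at h9
      exact eq_sub_iff_add_eq.2 h9
    have h2a : (2 : ZMod (2 ^ (a + 1))) ^ (a + 1) = 0 := by
      exact_mod_cast ZMod.natCast_self (2 ^ (a + 1))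
    have ha1 : 1 ≤ a := by
      by_contra hc
      rw [show a = 0 by omega] at ha
      omega
    have hsq : (q : ZMod (2 ^ (a + 1))) ^ 2 = 1 := by
      rw [hq']
      obtain ⟨b, rfl⟩ : ∃ b, a = b + 1 := ⟨a - 1, by omega⟩
      calc ((2 : ZMod (2 ^ (b + 1 + 1))) ^ (b + 1) - 1) ^ 2
          = 2 ^ (b + 1 + 1) * 2 ^ b - 2 ^ (b + 1 + 1) + 1 := by ring
        _ = 1 := by rw [h2a]; ring
    rw [pow_succ (q : ZMod (2 ^ (a + 1))) (2 * e), pow_mul (q : ZMod (2 ^ (a + 1))) 2 e, hsq, one_pow, one_mul,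
      hq', sub_add_cancel] at hdvd
    have h9 : ((2 ^ a : ℕ) : ZMod (2 ^ (a + 1))) = 0 := by exact_mod_cast hdvd
    rw [ZMod.natCast_eq_zero_iff] at h9
    exact absurd ((Nat.pow_dvd_pow_iff_le_right (by norm_num)).1 h9) (by omega)

variable {G V : Type*} [Group G] [Finite G] [AddCommGroup V] [DistribMulAction G V]

theorem card_eq_fix_mul [Finite V] (h2 : ∀ u : V, 2 • u = 0 → u = 0) {t s : G}
    (ht : ∀ v : V, t • (t • v) = v) (hs : ∀ v : V, s • v = -(t • v)) :
    Nat.card V = Nat.card (fix V t) * Nat.card (fix V s) := by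
  rw [← Nat.card_prod]
  refine (Nat.card_congr (Equiv.ofBijective (fun p : fix V t × fix V s => (p.1 : V) + p.2) ⟨?_, ?_⟩)).symm
  · rintro ⟨⟨a, ha⟩, ⟨b, hb⟩⟩ ⟨⟨a', ha'⟩, ⟨b', hb'⟩⟩ h
    have e1 : a - a' = b' - b := by
      have h' : a + b = a' + b' := h
      rw [sub_eq_sub_iff_add_eq_add, h', add_comm]
    have e2 : t • (a - a') = a - a' := (fix V t).sub_mem ha ha'
    have e3 : t • (b' - b) = -(b' - b) := by
      have h3 : s • (b' - b) = b' - b := (fix V s).sub_mem hb' hb
      rw [hs] at h3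
      exact (neg_eq_iff_eq_neg.1 h3)
    rw [← e1, e2] at e3
    have e4 := eq_zero_of_two_nsmul h2 e3
    refine Prod.ext (Subtype.ext (sub_eq_zero.1 e4)) (Subtype.ext ?_)
    rw [e1] at e4
    exact (sub_eq_zero.1 e4).symm
  · intro v
    obtain ⟨v', hv'⟩ : ∃ v' : V, 2 • v' = v :=
      (Finite.injective_iff_surjective.1 fun a b h => sub_eq_zero.1 (h2 _ (by rw [smul_sub, h, sub_self]))) v
    refine ⟨(⟨v' + t • v', by show t • _ = _; rw [smul_add, ht, add_comm]⟩,
      ⟨v' - t • v', by show s • _ = _; rw [hs, smul_sub, ht, neg_sub]⟩), ?_⟩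
    show v' + t • v' + (v' - t • v') = v
    rw [← hv', two_nsmul, add_add_sub_cancel]

variable {q : ℕ} [Fact q.Prime] [Module (ZMod q) V] [Finite V] [Nontrivial V]

/-- A half-transitive group with a cyclic maximal subgroup `⟨x⟩` and an involution outside it. -/
theorem axis_count (hq2 : q ≠ 2) (hE : EqualStab G V) (hf : ∀ g : G, (∀ v : V, g • v = v) → g = 1)
    (hns : ∀ v : V, v ≠ 0 → MulAction.stabilizer G v ≠ ⊥)
    {j m : ℕ} (hm : 2 ≤ m) (hmj : m ≤ j) {x y : G} (hxo : orderOf x = 2 ^ j) (hy : y * y = 1)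
    (hyx : y ∉ Subgroup.zpowers x) (hcard : Nat.card G = 2 * 2 ^ j)
    (hconj : y * x * y⁻¹ = x ^ (2 ^ m - 1)) : Nat.card V = q ^ 2 ∧ q = 2 ^ m - 1 := by
  classical
  have hq : q.Prime := Fact.out
  have hqodd := hq.odd_of_ne_two hq2
  have hq3 : 3 ≤ q := by have := hq.two_le; omega
  have h2 : ∀ u : V, 2 • u = 0 → u = 0 := fun u hu => by
    rw [← Nat.cast_smul_eq_nsmul (ZMod q)] at hu
    refine (smul_eq_zero.1 hu).resolve_left ?_
    intro h
    rw [ZMod.natCast_eq_zero_iff] at h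
    exact hq2 ((Nat.prime_dvd_prime_iff_eq hq Nat.prime_two).1 h)
  set X := Subgroup.zpowers x
  have hX : Nat.card X = 2 ^ j := by rw [Nat.card_zpowers, hxo]
  have hidx : X.index = 2 := by
    have h := X.card_mul_index
    rw [hX, hcard, mul_comm 2] at h
    exact mul_left_cancel₀ (pow_ne_zero _ two_ne_zero) h
  have hout : ∀ g : G, g ∉ X → g * y ∈ X := fun g hg => by
    rw [Subgroup.mul_mem_iff_of_index_two hidx]
    exact iff_of_false hg hyx
  have hyinv : y⁻¹ = y := inv_eq_of_mul_eq_one_right hy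
  have hconj' : ∀ h ∈ X, y * h * y⁻¹ = h ^ (2 ^ m - 1) := fun h hh => by
    obtain ⟨i, rfl⟩ := Subgroup.mem_zpowers_iff.1 hh
    rw [← conj_zpow, hconj, ← zpow_natCast, ← zpow_natCast, ← zpow_mul, ← zpow_mul, mul_comm]
  have hm1 : ∀ h : G, h * h ^ (2 ^ m - 1) = h ^ 2 ^ m := fun h => by
    rw [← pow_succ', Nat.sub_add_cancel Nat.one_le_two_pow]
  have hsq : ∀ h ∈ X, (h * y) * (h * y) = h ^ 2 ^ m := fun h hh => by
    rw [← hm1, ← hconj' h hh, hyinv]
    simp only [mul_assoc]
  -- the element of order four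
  set c := x ^ 2 ^ (j - 2) with hc
  have hcX : c ∈ X := Subgroup.npow_mem_zpowers x _
  have hc4 : c ^ 4 = 1 := by
    rw [hc, ← pow_mul, show 2 ^ (j - 2) * 4 = 2 ^ j by
      rw [show (4 : ℕ) = 2 ^ 2 by norm_num, ← pow_add]; congr 1; omega, ← hxo, pow_orderOf_eq_one]
  have hc2 : c ^ 2 ≠ 1 := by
    rw [hc, ← pow_mul, ← pow_succ]
    refine pow_ne_one_of_lt_orderOf (pow_ne_zero _ two_ne_zero) ?_
    rw [hxo]
    exact Nat.pow_lt_pow_right (by norm_num) (by omega)
  have hyc : y * c * y⁻¹ = c⁻¹ := by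
    rw [hconj' c hcX]
    refine eq_inv_of_mul_eq_one_right ?_
    rw [hm1, show 2 ^ m = 4 * 2 ^ (m - 2) by
      rw [show (4 : ℕ) = 2 ^ 2 by norm_num, ← pow_add]; congr 1; omega, pow_mul, hc4, one_pow]
  set z := c ^ 2 with hzdef
  have hz2 : z ^ 2 = 1 := by rw [hzdef, ← pow_mul]; exact hc4
  have hzc : z ∈ Subgroup.center G := by
    refine Subgroup.mem_center_iff.2 fun g => ?_
    have hXc : ∀ h ∈ X, h * z = z * h := fun h hh => by
      obtain ⟨i, rfl⟩ := Subgroup.mem_zpowers_iff.1 hh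
      rw [hzdef, hc, ← pow_mul]
      exact ((Commute.refl x).zpow_left i).pow_right _
    have hzy : y * z = z * y := by
      refine mul_inv_eq_iff_eq_mul.1 ?_
      rw [hzdef, ← conj_pow, hyc, inv_pow]
      exact inv_eq_of_mul_eq_one_right (by rw [← sq]; exact hz2)
    by_cases hg : g ∈ X
    · exact hXc g hg
    · have h1 := hXc _ (hout g hg)
      rw [mul_assoc, hzy, ← mul_assoc, ← mul_assoc] at h1
      exact mul_right_cancel h1
  have hneg : ∀ v : V, z • v = -v := fun v => by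
    have h := central_free hE hf h2 hzc hz2 hc2 (smul_orbSum hz2 v)
    simp only [orbSum, Finset.sum_range_succ, Finset.sum_range_zero, zero_add, pow_zero, pow_one, one_smul] at h
    exact eq_neg_of_add_eq_zero_right h
  -- stabilisers
  have hfreeX : ∀ h ∈ X, ∀ v : V, v ≠ 0 → h • v = v → h = 1 := by
    intro h hh v hv hhv
    by_contra h1
    obtain ⟨n, hn⟩ : ∃ n, orderOf h = 2 * n := by
      have hdv := X.orderOf_dvd_natCard hh
      rw [hX] at hdv
      obtain ⟨a, -, ha⟩ := (Nat.dvd_prime_pow Nat.prime_two).1 hdv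
      rcases a with _ | a
      · exact absurd (orderOf_eq_one_iff.1 ha) h1
      · exact ⟨2 ^ a, by rw [ha, pow_succ, mul_comm]⟩
    have hn0 : n ≠ 0 := fun h0 => (orderOf_pos h).ne' (by rw [hn, h0, mul_zero])
    have hhn : (h ^ n) ^ 2 = 1 := by rw [← pow_mul, mul_comm, ← hn, pow_orderOf_eq_one]
    have hhn1 : h ^ n ≠ 1 := pow_ne_one_of_lt_orderOf hn0 (by omega)
    -- the involution of a cyclic group is unique
    have hz' : h ^ n = z := by
      have hcyc : IsCyclic X := inferInstance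
      haveI := Fintype.ofFinite X
      have hle := IsCyclic.card_pow_eq_one_le (α := X) (n := 2) two_pos
      by_contra hne
      have hsub : ({1, ⟨h ^ n, X.pow_mem hh n⟩, ⟨z, X.pow_mem hcX 2⟩} : Finset X) ⊆
          Finset.univ.filter (fun a : X => a ^ 2 = 1) := by
        intro a ha
        simp only [Finset.mem_insert, Finset.mem_singleton] at ha
        rw [Finset.mem_filter]
        refine ⟨Finset.mem_univ a, Subtype.ext ?_⟩
        rcases ha with rfl | rfl | rfl
        · simp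
        · simpa using hhn
        · simpa using hz2
      have h3 := Finset.card_le_card hsub
      rw [Finset.card_eq_three.2 ⟨(1 : X), (⟨h ^ n, X.pow_mem hh n⟩ : X), (⟨z, X.pow_mem hcX 2⟩ : X),
        fun e => hhn1 (congrArg Subtype.val e).symm, fun e => hc2 (congrArg Subtype.val e).symm,
        fun e => hne (congrArg Subtype.val e), rfl⟩] at h3
      omega
    have hfix : (h ^ n) • v = v := (MulAction.stabilizer G v).pow_mem hhv n
    rw [hz', hneg] at hfix
    exact hv (eq_zero_of_two_nsmul h2 hfix.symm)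
  have huniq : ∀ v : V, v ≠ 0 → ∃! t : {t : G // t ∉ X ∧ t * t = 1}, (t : G) • v = v := by
    intro v hv
    obtain ⟨⟨t, ht⟩, ht1⟩ := Subgroup.ne_bot_iff_exists_ne_one.1 (hns v hv)
    have ht' : t • v = v := ht
    have htX : t ∉ X := fun h => ht1 (Subtype.ext (hfreeX t h v hv ht'))
    have h1 : t * t = 1 := hfreeX _ (Subgroup.mul_self_mem_of_index_two hidx t) v hv (by rw [mul_smul, ht', ht'])
    refine ⟨⟨t, htX, h1⟩, ht', ?_⟩
    rintro ⟨s, hsX, hs1⟩ hs
    refine Subtype.ext ?_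
    have h3 : s * t ∈ X := by
      rw [Subgroup.mul_mem_iff_of_index_two hidx]
      exact iff_of_false hsX htX
    have h4 := hfreeX _ h3 v hv (by rw [mul_smul, ht']; exact hs)
    exact (eq_inv_of_mul_eq_one_left h4).trans (inv_eq_of_mul_eq_one_right h1)
  -- the number of involutions outside the axis
  have hT : Nat.card {t : G // t ∉ X ∧ t * t = 1} = 2 ^ m := by
    have hpow : x ^ 2 ^ (j - m) ∈ X := Subgroup.npow_mem_zpowers x _
    have hord : orderOf (x ^ 2 ^ (j - m)) = 2 ^ m := by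
      rw [orderOf_pow_of_dvd (pow_ne_zero _ two_ne_zero) (by rw [hxo]; exact Nat.pow_dvd_pow 2 (by omega)),
        hxo, Nat.pow_div (by omega) two_pos, show j - (j - m) = m by omega]
    have hK : ∀ h : G, (h ∈ X ∧ h ^ 2 ^ m = 1) ↔ h ∈ Subgroup.zpowers (x ^ 2 ^ (j - m)) := by
      intro h
      constructor
      · rintro ⟨hh, h1⟩
        obtain ⟨i, rfl⟩ := Subgroup.mem_zpowers_iff.1 hh
        rw [← zpow_natCast, ← zpow_mul, ← orderOf_dvd_iff_zpow_eq_one, hxo] at h1
        have h5 : ((2 ^ (j - m) : ℕ) : ℤ) ∣ i := by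
          refine Int.dvd_of_mul_dvd_mul_right (a := ((2 ^ m : ℕ) : ℤ))
            (by exact_mod_cast pow_ne_zero m two_ne_zero) ?_
          rwa [← Nat.cast_mul, ← pow_add, Nat.sub_add_cancel hmj]
        obtain ⟨l, rfl⟩ := h5
        rw [zpow_mul, zpow_natCast]
        exact Subgroup.zpow_mem_zpowers _ _
      · intro hh
        refine ⟨(Subgroup.zpowers_le.2 hpow) hh, ?_⟩
        obtain ⟨i, rfl⟩ := Subgroup.mem_zpowers_iff.1 hh
        rw [← zpow_natCast, ← zpow_mul, mul_comm, zpow_mul, zpow_natCast, ← hord, pow_orderOf_eq_one, one_zpow]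
    calc Nat.card {t : G // t ∉ X ∧ t * t = 1}
        = Nat.card (Subgroup.zpowers (x ^ 2 ^ (j - m))) := Nat.card_congr
          { toFun := fun t => ⟨(t : G) * y, (hK _).1 ⟨hout _ t.2.1, by
              rw [← hsq _ (hout _ t.2.1), mul_assoc (t : G) y y, hy, mul_one]; exact t.2.2⟩⟩
            invFun := fun h => ⟨(h : G) * y,
              fun h' => hyx (by simpa using X.mul_mem (X.inv_mem ((hK _).2 h.2).1) h'), by
              rw [hsq _ ((hK _).2 h.2).1]; exact ((hK _).2 h.2).2⟩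
            left_inv := fun t => Subtype.ext (by simp [mul_assoc, hy])
            right_inv := fun h => Subtype.ext (by simp [mul_assoc, hy]) }
      _ = 2 ^ m := by rw [Nat.card_zpowers, hord]
  -- the size of a fixed space
  have hhalf : ∀ t : G, t ∉ X → t * t = 1 → Nat.card (fix V t) * Nat.card (fix V t) = Nat.card V := by
    intro t htX ht
    have hct : c * t * c⁻¹ = z * t := by
      have hyc' : y * c⁻¹ = c * y := by
        refine mul_inv_eq_iff_eq_mul.1 ?_
        rw [← conj_inv, hyc, inv_inv]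
      have hh := hout t htX
      have hch : Commute c (t * y) := by
        obtain ⟨i, hi⟩ := Subgroup.mem_zpowers_iff.1 hh
        rw [← hi, hc]
        exact ((Commute.refl x).zpow_right i).pow_left _
      calc c * t * c⁻¹ = c * (t * y) * (y * c⁻¹) := by
            rw [← mul_assoc, ← mul_assoc, mul_assoc (c * t) y y, hy, mul_one]
        _ = (t * y) * c * (c * y) := by rw [hch.eq, hyc']
        _ = c * c * (t * y) * y := by
            rw [← hch.eq, mul_assoc c (t * y), ← mul_assoc (t * y), ← hch.eq]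
            simp only [mul_assoc]
        _ = z * t := by rw [hzdef, sq, mul_assoc (c * c), mul_assoc t, hy, mul_one]
    rw [card_eq_fix_mul h2 (t := t) (s := z * t) (fun v => by rw [← mul_smul, ht, one_smul])
      (fun v => by rw [mul_smul, hneg])]
    congr 1
    refine Nat.card_congr
      { toFun := fun v => ⟨c • v.1, by
          show (z * t) • (c • v.1) = c • v.1
          rw [← hct, mul_smul, inv_smul_smul, mul_smul, show t • v.1 = v.1 from v.2]⟩
        invFun := fun v => ⟨c⁻¹ • v.1, by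
          show t • (c⁻¹ • v.1) = c⁻¹ • v.1
          rw [eq_inv_smul_iff, ← mul_smul, ← mul_smul, hct]
          exact v.2⟩
        left_inv := fun v => Subtype.ext (inv_smul_smul _ _)
        right_inv := fun v => Subtype.ext (smul_inv_smul _ _) }
  -- counting
  obtain ⟨n, hn⟩ : ∃ n, Nat.card V = q ^ n :=
    ⟨Module.finrank (ZMod q) V, by rw [Module.natCard_eq_pow_finrank (K := ZMod q), Nat.card_zmod]⟩
  obtain ⟨v0, hv0⟩ := exists_ne (0 : V)
  obtain ⟨⟨t0, ht0X, ht0⟩, -, -⟩ := huniq v0 hv0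
  obtain ⟨d, -, hd⟩ := (Nat.dvd_prime_pow hq).1 (hn ▸ Dvd.intro _ (hhalf t0 ht0X ht0))
  have hM : ∀ t : {t : G // t ∉ X ∧ t * t = 1}, Nat.card (fix V (t : G)) = q ^ d := fun t => by
    have h := (hhalf t t.2.1 t.2.2).trans (hhalf t0 ht0X ht0).symm
    rw [Nat.mul_self_inj] at h
    rw [h, hd]
  have hV : Nat.card V = q ^ d * q ^ d := by rw [← hhalf t0 ht0X ht0, hd]
  have hcount : Nat.card V - 1 = 2 ^ m * (q ^ d - 1) := by
    have hsigma : Nat.card {v : V // v ≠ 0} =
        Nat.card (Σ t : {t : G // t ∉ X ∧ t * t = 1}, {v : V // v ≠ 0 ∧ (t : G) • v = v}) :=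
      Nat.card_congr
        { toFun := fun v => ⟨(huniq v.1 v.2).choose, v.1, v.2, (huniq v.1 v.2).choose_spec.1⟩
          invFun := fun s => ⟨s.2.1, s.2.2.1⟩
          left_inv := fun v => rfl
          right_inv := fun s => by
            obtain ⟨t, v, hv, htv⟩ := s
            have h := (huniq v hv).choose_spec.2 t htv
            subst h
            rfl }
    haveI := Fintype.ofFinite {t : G // t ∉ X ∧ t * t = 1}
    rw [Nat.card_sigma] at hsigma
    have hsub : ∀ t : {t : G // t ∉ X ∧ t * t = 1},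
        Nat.card {v : V // v ≠ 0 ∧ (t : G) • v = v} = q ^ d - 1 := by
      intro t
      rw [← hM t]
      have h := Set.ncard_sdiff_singleton_of_mem (s := (fix V (t : G) : Set V)) (fix V (t : G)).zero_mem
      rw [← Nat.card_coe_set_eq] at h
      rw [show Nat.card (fix V (t : G)) = (fix V (t : G) : Set V).ncard from Nat.card_coe_set_eq _, ← h]
      exact Nat.card_congr (Equiv.subtypeEquivRight fun v => and_comm)
    simp only [hsub, Finset.sum_const, Finset.card_univ, smul_eq_mul, ← Nat.card_eq_fintype_card, hT] at hsigma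
    have h := Set.ncard_sdiff_singleton_of_mem (s := (Set.univ : Set V)) (a := 0) trivial
    rw [Set.ncard_univ, ← Nat.card_coe_set_eq] at h
    rw [← h, ← hsigma]
    exact Nat.card_congr (Equiv.subtypeEquivRight fun v => by simp)
  have hd0 : d ≠ 0 := by
    rintro rfl
    have : 1 < Nat.card V := Finite.one_lt_card
    rw [hV, pow_zero] at this
    omega
  have hkey : q ^ d + 1 = 2 ^ m := by
    have hM2 : 2 ≤ q ^ d := (by omega : 2 ≤ q).trans (Nat.le_self_pow hd0 q)
    have h1 : q ^ d * q ^ d - 1 = (q ^ d + 1) * (q ^ d - 1) := by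
      rw [← Nat.sq_sub_sq, one_pow, sq]
    rw [hV, h1] at hcount
    exact Nat.eq_of_mul_eq_mul_right (by omega) hcount
  obtain rfl := eq_one_of_pow_add_one hqodd hq3 hd0 hkey
  rw [pow_one] at hkey hV
  exact ⟨by rw [hV, sq], by omega⟩

end CfsgLib.HalfTransitive
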